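import Cfsg.Agent.J4SylEleven.NormU
import Cfsg.Agent.SylowTwoMeet.Recognition
import Cfsg.Agent.InvChar.UniqueInvolution

/-!
A complement `GL(2, 3)` to `⟨x⟩` among the elements of `N_H(⟨x⟩)` fixing or inverting `x`.
-/

set_option autoImplicit false
set_option linter.style.haveILetI false
set_option linter.unusedSectionVars false

namespace CfsgLib.J4SylEleven

open Cfsg CfsgLib.J4Local Subgroup
open CfsgLib.J4Seven (mem_norm_zpowers orderOf_conj7)
open scoped commutatorElement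

variable {G : Type*} [Group G] [Finite G] {z : G} {P : Subgroup G}

/-- Conjugation in `E` changes an element by a factor in `⟨z⟩`. -/
theorem conj_E_eq (hJ : IsOfJankoFourTypeWith z P) {e y : G} (he : e ∈ cE z) (hy : y ∈ cE z) :
    e * y * e⁻¹ = y ∨ e * y * e⁻¹ = z * y := by
  have h : e * y * e⁻¹ = ⁅e, y⁆ * y := by rw [commutatorElement_def, inv_mul_cancel_right]
  rcases CfsgLib.J4Five.comm_mem_zpowers hJ he hy with h1 | h1 <;> rw [h, h1]
  · left; rw [one_mul]
  · right; rfl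

/-- `P` does not act trivially on `C_E(x)`, even up to inner automorphisms inverting it. -/
theorem no_inv_trivial (hJ : IsOfJankoFourTypeWith z P) {x : G} (hx : x ∈ cC z P) (hxo : orderOf x = 11)
    {p : G} (hp : zpowers p = P) (hp3 : p ^ 3 = 1)
    (hnorm : ∀ y ∈ cE z ⊓ centralizer ({x} : Set G), p * y * p⁻¹ ∈ cE z ⊓ centralizer ({x} : Set G))
    (htwo : ∀ y ∈ cE z ⊓ centralizer ({x} : Set G), p ^ 2 * y * (p ^ 2)⁻¹ = y ∨ p ^ 2 * y * (p ^ 2)⁻¹ = z * y) :
    False := by
  set R := cE z ⊓ centralizer ({x} : Set G)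
  have hzp : Commute (p ^ 2) z := by
    have h := Subgroup.mem_centralizer_iff.1 (z_mem_C_P hJ) p (hp ▸ mem_zpowers p)
    exact (show Commute p z from h).pow_left 2
  have hzz : z * z = 1 := z_sq hJ
  have hfix : ∀ y ∈ R, Commute p y := by
    intro y hy
    have h4 : p ^ 2 * (p ^ 2 * y * (p ^ 2)⁻¹) * (p ^ 2)⁻¹ = y := by
      rcases htwo y hy with h | h
      · rw [h, h]
      · rw [h, show p ^ 2 * (z * y) * (p ^ 2)⁻¹ = (p ^ 2 * z) * y * (p ^ 2)⁻¹ by group, hzp.eq,
          show z * p ^ 2 * y * (p ^ 2)⁻¹ = z * (p ^ 2 * y * (p ^ 2)⁻¹) by group, h, ← mul_assoc, hzz, one_mul]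
    have h22 : p ^ 2 * p ^ 2 = p := by rw [← pow_add, show 2 + 2 = 3 + 1 by rfl, pow_succ, hp3, one_mul]
    rw [show p ^ 2 * (p ^ 2 * y * (p ^ 2)⁻¹) * (p ^ 2)⁻¹ = (p ^ 2 * p ^ 2) * y * (p ^ 2 * p ^ 2)⁻¹ by group,
      h22] at h4
    exact mul_inv_eq_iff_eq_mul.1 h4
  have hle : R ≤ zpowers z := by
    rw [← E_inf_centralizer hJ]
    refine fun y hy => ⟨hy.1, Subgroup.mem_centralizer_iff.2 fun q hq => ?_⟩
    obtain ⟨i, rfl⟩ := mem_zpowers_iff.1 (hp.ge hq)
    exact ((hfix y hy).zpow_left i).eq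
  have h := Subgroup.card_le_of_le hle
  rw [card_fixE hJ hx hxo, Nat.card_zpowers, orderOf_z hJ] at h
  omega

variable {x : G} {U : Subgroup G}

/-- A subgroup `GL(2, 3)` of `N_H(⟨x⟩)`. -/
theorem exists_gl (B : Base z P x U) : ∃ K : Subgroup G,
    K ≤ cH z ⊓ normalizer ((zpowers x : Subgroup G) : Set G) ∧ Nonempty (↥K ≃* GL (Fin 2) (ZMod 3)) := by
  classical
  have hJ := B.type
  have hxC := B.memC
  have hxo := B.ord
  set N := normalizer ((zpowers x : Subgroup G) : Set G)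
  set R := cE z ⊓ centralizer ({x} : Set G) with hR
  have hRc : Nat.card R = 8 := card_fixE hJ hxC hxo
  have hzR : z ∈ R := ⟨z_mem_E hJ, mem_centralizer_singleton_iff.2 B.zx.eq⟩
  -- the pieces
  obtain ⟨p, hpP, hp3, hpgen⟩ := exists_gen_P hJ
  have hp31 : p ^ 3 = 1 := by rw [← hp3, pow_orderOf_eq_one]
  have hpH : p ∈ cH z := mem_cH.2 (Subgroup.mem_centralizer_iff.1 (z_mem_C_P hJ) p hpP)
  have hpx : Commute p x := Subgroup.mem_centralizer_iff.1 hxC.2 p hpP
  obtain ⟨v, hv⟩ : (invPart' z U).Nonempty :=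
    Set.nonempty_of_ncard_ne_zero (by rw [B.ncard_invPart']; norm_num)
  obtain ⟨s, hsH, hs2, hsx, -⟩ := B.exists_refl hv
  have hss : s * s = 1 := by rw [← pow_two, ← hs2, pow_orderOf_eq_one]
  have hsi : s⁻¹ = s := inv_eq_of_mul_eq_one_left hss
  have conjR : ∀ g ∈ cH z, g * x * g⁻¹ ∈ zpowers x → ∀ y ∈ R, g * y * g⁻¹ ∈ R := fun g hg hgx y hy =>
    fixE_conj hJ hxC hxo hg hgx hy
  have hpconj : ∀ y ∈ R, p * y * p⁻¹ ∈ R :=
    conjR p hpH (by rw [hpx.eq, mul_inv_cancel_right]; exact mem_zpowers x)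
  have hPR : P ≤ normalizer (R : Set G) := by
    rw [← hpgen, zpowers_le, Subgroup.mem_normalizer_iff_map_conj_eq]
    refine eq_of_le_of_card_ge ?_ (by rw [Subgroup.card_map_of_injective (MulAut.conj p).injective])
    rintro _ ⟨y, hy, rfl⟩
    exact hpconj y hy
  set A := P ⊔ R with hA
  have hAH : A ≤ cH z := sup_le (by rw [← hpgen]; exact zpowers_le.2 hpH) (inf_le_left.trans E_le_H)
  have hAx : A ≤ centralizer ({x} : Set G) := by
    refine sup_le ?_ inf_le_right
    rw [← hpgen]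
    exact zpowers_le.2 (mem_centralizer_singleton_iff.2 hpx.eq)
  have hPRinf : P ⊓ R = ⊥ := Subgroup.inf_eq_bot_of_coprime (by rw [card_P hJ, hRc]; norm_num)
  have hAc : Nat.card A = 24 := by
    have h := CfsgLib.Solvable.card_sup_mul_card_inf hPR
    rw [hPRinf, card_P hJ, hRc, Subgroup.card_bot, mul_one] at h
    exact h
  have hmemA : ∀ y ∈ A, ∃ q ∈ P, ∃ r ∈ R, y = q * r := by
    intro y hy
    obtain ⟨q, hq, r, hr, h⟩ := (CfsgLib.Solvable.mem_sup_of_le_normalizer hPR).1 hy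
    exact ⟨q, hq, r, hr, h.symm⟩
  -- the involution normalises `A`
  have hsA : ∀ y ∈ A, s * y * s⁻¹ ∈ A := by
    have hsR : ∀ y ∈ R, s * y * s⁻¹ ∈ R := conjR s hsH (by rw [hsx]; exact inv_mem (mem_zpowers x))
    obtain ⟨a, ha, e, he, hse, hap⟩ := inverting hJ hxC hxo hsH hsx
    have haR : ∀ y ∈ R, a * y * a⁻¹ ∈ R := by
      intro y hy
      have h1 : e⁻¹ * y * e ∈ R := mul_mem (mul_mem (inv_mem he) hy) he
      have := hsR _ h1
      rwa [hse, show a * e * (e⁻¹ * y * e) * (a * e)⁻¹ = a * y * a⁻¹ by group] at this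
    have hsP : ∀ q ∈ P, s * q * s⁻¹ ∈ A := by
      intro q hq
      have h1 : e * q * e⁻¹ * q⁻¹ ∈ R := by
        rw [show e * q * e⁻¹ * q⁻¹ = e * (q * e⁻¹ * q⁻¹) by group]
        refine mul_mem he ?_
        exact (Subgroup.mem_normalizer_iff.1 (hPR hq) e⁻¹).1 (inv_mem he)
      rw [hse, show a * e * q * (a * e)⁻¹ = a * (e * q * e⁻¹ * q⁻¹) * a⁻¹ * (a * q * a⁻¹) by group, hap q hq]
      exact mul_mem (mem_sup_right (haR _ h1)) (mem_sup_left (inv_mem hq))
    intro y hy
    obtain ⟨q, hq, r, hr, rfl⟩ := hmemA y hy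
    rw [show s * (q * r) * s⁻¹ = (s * q * s⁻¹) * (s * r * s⁻¹) by group]
    exact mul_mem (hsP q hq) (mem_sup_right (hsR r hr))
  have hsN : zpowers s ≤ normalizer (A : Set G) := by
    rw [zpowers_le, Subgroup.mem_normalizer_iff_map_conj_eq]
    refine eq_of_le_of_card_ge ?_ (by rw [Subgroup.card_map_of_injective (MulAut.conj s).injective])
    rintro _ ⟨y, hy, rfl⟩
    exact hsA y hy
  have hxne : x⁻¹ ≠ x := by
    intro h
    have h1 : x ^ 2 = 1 := by rw [pow_two]; nth_rw 1 [← h]; exact inv_mul_cancel x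
    have := orderOf_dvd_of_pow_eq_one h1
    rw [hxo] at this
    norm_num at this
  have hsnA : s ∉ A := fun h => by
    rw [mem_centralizer_singleton_iff.1 (hAx h), mul_inv_cancel_right] at hsx
    exact hxne hsx.symm
  set K := zpowers s ⊔ A with hK
  have hKc : Nat.card K = 48 := by
    have h := CfsgLib.Solvable.card_sup_mul_card_inf hsN
    have hinf : zpowers s ⊓ A = ⊥ := by
      rw [eq_bot_iff]
      rintro y ⟨hy, hyA⟩
      rw [Subgroup.mem_bot]
      obtain ⟨i, rfl⟩ := mem_powers_iff_mem_zpowers.2 hy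
      rcases Nat.even_or_odd i with ⟨j, rfl⟩ | ⟨j, rfl⟩
      · show s ^ (j + j) = 1
        rw [pow_add, ← (Commute.refl s).mul_pow, hss, one_pow]
      · refine absurd ?_ hsnA
        have e : s ^ (2 * j + 1) = s := by rw [pow_succ, pow_mul, pow_two, hss, one_pow, one_mul]
        rw [← e]
        exact hyA
    rw [hinf, hAc, Nat.card_zpowers, hs2, Subgroup.card_bot, mul_one] at h
    exact h
  have hxnorm : ∀ g, g * x * g⁻¹ ∈ zpowers x → g ∈ N := fun g h => B.norm_of_conj h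
  have hKle : K ≤ cH z ⊓ N := by
    refine sup_le (zpowers_le.2 ⟨hsH, hxnorm s (by rw [hsx]; exact inv_mem (mem_zpowers x))⟩)
      fun y hy => ⟨hAH hy, hxnorm y ?_⟩
    rw [mem_centralizer_singleton_iff.1 (hAx hy), mul_inv_cancel_right]
    exact mem_zpowers x
  refine ⟨K, hKle, ?_⟩
  -- the quaternion subgroup
  haveI : Fact (Nat.Prime 2) := ⟨Nat.prime_two⟩
  have huniq : ∀ y : G, y ∈ R → orderOf y = 2 → y = z := by
    intro y hy hy2
    refine (invol_eq hJ hxC hxo ⟨E_le_H hy.1, hy.2⟩ (by rw [← pow_two, ← hy2, pow_orderOf_eq_one])).resolve_left ?_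
    intro h
    rw [h, orderOf_one] at hy2
    norm_num at hy2
  obtain ⟨b, hb, c, hc, hbc⟩ := exists_commutator hxC hxo hJ
  have hz1 : z ≠ 1 := fun h => by have := orderOf_z hJ; rw [h, orderOf_one] at this; norm_num at this
  obtain ⟨eQ⟩ : Nonempty (↥R ≃* QuaternionGroup 2) := by
    rcases CfsgLib.UniqueInvol.cyclic_or_quaternion (G := ↥R) (p := 2)
        (IsPGroup.of_card (n := 3) (by rw [hRc]; norm_num)) (fun y w hy hw => by
          rw [Subtype.ext ((huniq w w.2 (by rw [Subgroup.orderOf_coe, hw])).trans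
            (huniq y y.2 (by rw [Subgroup.orderOf_coe, hy])).symm)]
          exact mem_zpowers y) with h | ⟨-, n, hn, ⟨e⟩⟩
    · exfalso
      haveI := h
      have hcm : b * c = c * b :=
        congrArg Subtype.val (IsCyclic.commGroup.mul_comm (⟨b, hb⟩ : ↥R) ⟨c, hc⟩)
      rw [hcm] at hbc
      exact hz1 (mul_eq_right.1 hbc.symm)
    · have h8 := Nat.card_congr e.toEquiv
      haveI : NeZero (2 ^ n) := ⟨pow_ne_zero _ (by norm_num)⟩
      rw [hRc, Nat.card_eq_fintype_card, QuaternionGroup.card] at h8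
      have hn1 : n = 1 := by
        have : 2 ^ n = 2 ^ 1 := by omega
        exact Nat.pow_right_injective le_rfl this
      subst hn1
      exact ⟨e⟩
  have hRA : R ≤ A := le_sup_right
  have hRK : R ≤ K := hRA.trans le_sup_right
  have hKR : ∀ g ∈ K, ∀ y ∈ R, g * y * g⁻¹ ∈ R := fun g hg =>
    conjR g (hKle hg).1 ((mem_norm_zpowers.1 (hKle hg).2).le (mem_zpowers _))
  haveI hRn : (R.subgroupOf K).Normal := ⟨fun y hy g => by
    rw [mem_subgroupOf] at hy ⊢
    exact hKR g g.2 y hy⟩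
  -- elements of `K` centralising `R`
  have hcase : ∀ g ∈ K, g ∈ centralizer (R : Set G) → g ∈ zpowers z := by
    intro g hg hgR
    have hgR' : ∀ y ∈ R, g * y * g⁻¹ = y := fun y hy => by
      rw [← Subgroup.mem_centralizer_iff.1 hgR y hy, mul_inv_cancel_right]
    obtain ⟨t, ht, y, hy, rfl⟩ := (CfsgLib.Solvable.mem_sup_of_le_normalizer hsN).1 hg
    obtain ⟨i, rfl⟩ := mem_powers_iff_mem_zpowers.2 ht
    beta_reduce at hg hgR hgR' ⊢
    rcases Nat.even_or_odd i with ⟨j, rfl⟩ | ⟨j, rfl⟩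
    · have e : s ^ (j + j) * y = y := by rw [pow_add, ← (Commute.refl s).mul_pow, hss, one_pow, one_mul]
      rw [e] at hg hgR hgR' ⊢
      obtain ⟨q, hq, r, hr, rfl⟩ := hmemA y hy
      obtain ⟨k, rfl⟩ := mem_powers_iff_mem_zpowers.2 (hpgen.ge hq)
      beta_reduce at hg hgR hgR' hq ⊢
      -- the action of the power of `p` is inner
      have hq2 : ∀ w ∈ R, p ^ k * w * (p ^ k)⁻¹ = w ∨ p ^ k * w * (p ^ k)⁻¹ = z * w := by
        intro w hw
        have h1 := hgR' (r⁻¹ * w * r) (mul_mem (mul_mem (inv_mem hr) hw) hr)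
        rw [show p ^ k * r * (r⁻¹ * w * r) * (p ^ k * r)⁻¹ = p ^ k * w * (p ^ k)⁻¹ by group] at h1
        have h2 := conj_E_eq hJ (inv_mem hr.1) hw.1
        rw [inv_inv] at h2
        rw [h1]
        exact h2
      obtain ⟨m, hm⟩ : ∃ m, k = 3 * m + k % 3 := ⟨k / 3, (Nat.div_add_mod k 3).symm⟩
      have hk : p ^ k = p ^ (k % 3) := by
        conv_lhs => rw [hm, pow_add, pow_mul, hp31, one_pow, one_mul]
      have : k % 3 = 0 ∨ k % 3 = 1 ∨ k % 3 = 2 := by omega
      rcases this with h | h | h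
      · rw [hk, h, pow_zero, one_mul] at hgR ⊢
        have hrc : ∀ w ∈ R, w * r = r * w := fun w hw => Subgroup.mem_centralizer_iff.1 hgR w hw
        -- the centre of a quaternion group of order eight
        have hcen : (⟨r, hr⟩ : ↥R) ∈ center ↥R := mem_center_iff.2 fun w => Subtype.ext (hrc w w.2)
        have hsq : eQ ⟨r, hr⟩ * eQ ⟨r, hr⟩ = 1 := by
          have h' : ∀ u : QuaternionGroup 2, (∀ w, w * u = u * w) → u * u = 1 := by decide +kernel
          refine h' _ fun w => ?_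
          obtain ⟨w, rfl⟩ := eQ.surjective w
          rw [← map_mul, ← map_mul, mem_center_iff.1 hcen w]
        rw [← map_mul, map_eq_one_iff eQ eQ.injective] at hsq
        rcases invol_eq hJ hxC hxo ⟨E_le_H hr.1, hr.2⟩ (congrArg Subtype.val hsq) with h' | h'
        · rw [h']; exact one_mem _
        · rw [h']; exact mem_zpowers z
      · exfalso
        rw [hk, h, pow_one] at hq2
        refine no_inv_trivial hJ hxC hxo hpgen hp31 hpconj fun w hw => ?_
        -- square the action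
        have hzp : p * z = z * p := mem_cH.1 hpH
        have e2 : ∀ w, p ^ 2 * w * (p ^ 2)⁻¹ = p * (p * w * p⁻¹) * p⁻¹ := fun w => by rw [pow_two]; group
        have hz2 : ∀ w, p * (z * w) * p⁻¹ = z * (p * w * p⁻¹) := fun w => by
          rw [← mul_assoc p z w, hzp]; group
        rw [e2]
        rcases hq2 w hw with h1 | h1 <;> rw [h1]
        · exact hq2 w hw
        · rw [hz2, h1, ← mul_assoc, B.zz, one_mul]; left; rfl
      · exfalso
        rw [hk, h] at hq2
        exact no_inv_trivial hJ hxC hxo hpgen hp31 hpconj hq2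
    · exfalso
      have e : s ^ (2 * j + 1) = s := by rw [pow_succ, pow_mul, pow_two, hss, one_pow, one_mul]
      rw [e] at hg hgR hgR'
      have hyx : y * x * y⁻¹ = x := by
        rw [mem_centralizer_singleton_iff.1 (hAx hy), mul_inv_cancel_right]
      have hgx : s * y * x * (s * y)⁻¹ = x⁻¹ := by
        rw [show s * y * x * (s * y)⁻¹ = s * (y * x * y⁻¹) * s⁻¹ by group, hyx, hsx]
      obtain ⟨a, ha, f, hf, hgf, hap⟩ := inverting hJ hxC hxo (hKle hg).1 hgx
      generalize s * y = g at hgR hgR' hgf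
      subst hgf
      refine no_inv_trivial hJ hxC hxo hpgen hp31 hpconj fun w hw => ?_
      -- compare the action of `p⁻¹ = a p a⁻¹` with that of `p`
      have haact : ∀ u ∈ R, a * u * a⁻¹ = u ∨ a * u * a⁻¹ = z * u := fun u hu => by
        have h1 := hgR' (f⁻¹ * u * f) (mul_mem (mul_mem (inv_mem hf) hu) hf)
        rw [show a * f * (f⁻¹ * u * f) * (a * f)⁻¹ = a * u * a⁻¹ by group] at h1
        have h2 := conj_E_eq hJ (inv_mem hf.1) hu.1
        rw [inv_inv] at h2
        rw [h1]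
        exact h2
      have hainv : ∀ u ∈ R, a⁻¹ * u * a = f * u * f⁻¹ := fun u hu => by
        have h1 := hgR' u hu
        calc a⁻¹ * u * a = a⁻¹ * (a * f * u * (a * f)⁻¹) * a := by rw [h1]
          _ = _ := by group
      have hzp : Commute p z := mem_cH.1 hpH
      have key : p⁻¹ * w * p = p * w * p⁻¹ ∨ p⁻¹ * w * p = z * (p * w * p⁻¹) := by
        have h0 : p⁻¹ * w * p = a * (p * (a⁻¹ * w * a) * p⁻¹) * a⁻¹ := by
          rw [show a * (p * (a⁻¹ * w * a) * p⁻¹) * a⁻¹ = (a * p * a⁻¹) * w * (a * p * a⁻¹)⁻¹ by group,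
            hap p hpP, inv_inv]
        rw [h0, hainv w hw]
        have hpw := hpconj w hw
        rcases conj_E_eq hJ hf.1 hw.1 with h1 | h1 <;> rw [h1]
        · rcases haact _ hpw with h2 | h2 <;> rw [h2]
          · left; rfl
          · right; rfl
        · have h3 : p * (z * w) * p⁻¹ = z * (p * w * p⁻¹) := by rw [← mul_assoc p z w, hzp.eq]; group
          rw [h3]
          rcases haact _ (mul_mem hzR hpw) with h2 | h2 <;> rw [h2]
          · right; rfl
          · left; rw [← mul_assoc, B.zz, one_mul]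
      have h4 : p ^ 2 * w * (p ^ 2)⁻¹ = p⁻¹ * w * p := by
        have : p ^ 2 = p⁻¹ := eq_inv_of_mul_eq_one_left (by rw [← pow_succ, hp31])
        rw [this, inv_inv]
      -- conjugate once more
      have hw' : p⁻¹ * w * p ∈ R := by
        rw [← h4, show p ^ 2 * w * (p ^ 2)⁻¹ = p * (p * w * p⁻¹) * p⁻¹ by rw [pow_two]; group]
        exact hpconj _ (hpconj w hw)
      have e4 : p * (p⁻¹ * w * p) * p⁻¹ = w := by group
      have h22 : p * (p * w * p⁻¹) * p⁻¹ = p ^ 2 * w * (p ^ 2)⁻¹ := by rw [pow_two]; group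
      rcases key with h5 | h5
      · left
        rw [← h22, ← h5, e4]
      · right
        rw [h5, show p * (z * (p * w * p⁻¹)) * p⁻¹ = (p * z) * (p * w * p⁻¹) * p⁻¹ by group, hzp.eq,
          show z * p * (p * w * p⁻¹) * p⁻¹ = z * (p ^ 2 * w * (p ^ 2)⁻¹) by rw [pow_two]; group] at e4
        calc p ^ 2 * w * (p ^ 2)⁻¹ = z * (z * (p ^ 2 * w * (p ^ 2)⁻¹)) := by rw [← mul_assoc, B.zz, one_mul]
          _ = z * w := by rw [e4]
  -- conclude
  have hcent : Nat.card (centralizer ((R.subgroupOf K : Subgroup ↥K) : Set ↥K)) = 2 := by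
    have h : centralizer ((R.subgroupOf K : Subgroup ↥K) : Set ↥K) = (zpowers z).subgroupOf K := by
      ext g
      rw [mem_subgroupOf, mem_centralizer_iff]
      constructor
      · intro hg
        refine hcase g g.2 (Subgroup.mem_centralizer_iff.2 fun y hy => ?_)
        exact congrArg Subtype.val (hg ⟨y, hRK hy⟩ (mem_subgroupOf.2 hy))
      · intro hg y hy
        obtain ⟨i, hi⟩ := mem_zpowers_iff.1 hg
        refine Subtype.ext ?_
        show (y : G) * g = g * y
        rw [← hi]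
        exact ((show Commute (y : G) z from mem_cH.1 (hKle y.2).1).zpow_right i).eq
    rw [h, Nat.card_congr (Subgroup.subgroupOfEquivOfLe (zpowers_le.2 (hRK hzR))).toEquiv, Nat.card_zpowers,
      orderOf_z hJ]
  obtain ⟨e1⟩ := CfsgLib.SylowTwoMeet.nonempty_model_equiv (R.subgroupOf K)
    ((Subgroup.subgroupOfEquivOfLe hRK).trans eQ) hKc hcent
    (t := (⟨s, mem_sup_left (mem_zpowers s)⟩ : ↥K)) (Subtype.ext hss)
    (fun h => hsnA (hRA (mem_subgroupOf.1 h)))
  obtain ⟨e2⟩ := CfsgLib.SylowTwoMeet.nonempty_model_gl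
  exact ⟨e1.symm.trans e2⟩

end CfsgLib.J4SylEleven
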