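import Cfsg.Agent.J4Seven.Aut22
import Cfsg.Agent.Golay.PrimeCounts
import Cfsg.Agent.Golay.IndexPoint

/-!
Elements of order eleven in the automorphism group of the Mathieu group of degree 22: self-centralising,
with normaliser of order 110, and inner automorphisms do not invert them.
-/

set_option autoImplicit false
set_option linter.style.haveILetI false

namespace CfsgLib.J4SylEleven

open Cfsg CfsgLib.Golay CfsgLib.Golay.Cert Subgroup CfsgLib.J4Seven

/-- No involution of the Mathieu group of degree 24 centralises an element of order eleven. -/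
theorem no_involution_eleven {u c : M24} (hu : orderOf u = 11) (hc : orderOf c = 2) (h : c * u = u * c) :
    False := by
  classical
  haveI : Fact (Nat.Prime 11) := ⟨by norm_num⟩
  by_cases hfix : ∃ e : GolayPt, (u : Equiv.Perm GolayPt) e = e ∧ (c : Equiv.Perm GolayPt) e = e
  · obtain ⟨e, hue, hce⟩ := hfix
    exact absurd (eleven_centralizer hu hue hce h Nat.prime_two hc) (by norm_num)
  push Not at hfix
  have h0 : ∀ p, (c : Equiv.Perm GolayPt) p ≠ p := by
    intro p hp
    obtain ⟨k, hk | hk⟩ := two_cases hc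
    · set F := fixedPts (c : Equiv.Perm GolayPt)
      have hFu : ∀ r ∈ F, (u : Equiv.Perm GolayPt) r ∈ F := by
        intro r hr
        simp only [F, fixedPts, Finset.mem_filter, Finset.mem_univ, true_and] at hr ⊢
        have := congrArg (fun z : M24 => (z : Equiv.Perm GolayPt) r) h
        simp only [Subgroup.coe_mul, Equiv.Perm.mul_apply, hr] at this
        exact this
      have hm := card_inv_mod (σ := (u : Equiv.Perm GolayPt)) (q := 11) (by norm_num)
        (pow_coe_eq_one (hu ▸ pow_orderOf_eq_one u)) F hFu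
      rw [Finset.filter_false_of_mem (fun r hr e => hfix r e (by
        simpa [F, fixedPts] using hr)), hk.2.2, Finset.card_empty] at hm
      norm_num at hm
    · have hmem : p ∈ fixedPts (c : Equiv.Perm GolayPt) := by simp [fixedPts, hp]
      rw [Finset.card_eq_zero.1 hk.2] at hmem
      simp at hmem
  have hC := (fpf_centralizer hc h0).1
  have hd := Subgroup.orderOf_dvd_natCard (Subgroup.centralizer ({c} : Set M24))
    (mem_centralizer_singleton_iff.2 h.symm)
  rw [hC, hu] at hd
  norm_num at hd

/-- Elements of order eleven of the Mathieu group of degree 24 are self-centralising. -/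
theorem centralizer_eleven_M24 {u c : M24} (hu : orderOf u = 11) (h : c * u = u * c) : c ∈ zpowers u := by
  have hle : zpowers u ≤ centralizer ({u} : Set M24) := zpowers_le.2 (mem_centralizer_singleton_iff.2 rfl)
  have h22 := m24_eleven_centralizer hu
  have hd := Subgroup.card_dvd_of_le hle
  rw [Nat.card_zpowers, hu] at hd
  have h11 : Nat.card (centralizer ({u} : Set M24)) = 11 ∨ Nat.card (centralizer ({u} : Set M24)) = 22 := by
    obtain ⟨k, hk⟩ := hd
    have : 0 < Nat.card (centralizer ({u} : Set M24)) := Nat.card_pos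
    omega
  rcases h11 with e | e
  · rw [eq_of_le_of_card_ge hle (by rw [e, Nat.card_zpowers, hu])]
    exact mem_centralizer_singleton_iff.2 h
  · haveI : Fact (Nat.Prime 2) := ⟨Nat.prime_two⟩
    obtain ⟨r, hr⟩ := exists_prime_orderOf_dvd_card' (G := centralizer ({u} : Set M24)) 2 (by rw [e]; norm_num)
    rw [← Subgroup.orderOf_coe] at hr
    exact (no_involution_eleven hu hr (mem_centralizer_singleton_iff.1 r.2)).elim

theorem exists_inner_eleven {a : MulAut J4M22.M} (ha : orderOf a = 11) :
    ∃ x : J4M22.M, orderOf x = 11 ∧ MulAut.conj x = a := by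
  have hidx : (Inn J4M22.M).index = 2 := out_m22
  have h2 : a ^ 12 ∈ Inn J4M22.M := by
    rw [show 12 = 2 * 6 by norm_num, pow_mul]
    exact pow_mem (Subgroup.sq_mem_of_index_two hidx a) 6
  have e : a ^ 12 = a := by rw [show 12 = 11 + 1 by norm_num, pow_succ, ← ha, pow_orderOf_eq_one, one_mul]
  rw [e] at h2
  obtain ⟨x, rfl⟩ := h2
  exact ⟨x, by rwa [orderOf_conjAut] at ha, rfl⟩

/-- The centraliser of an element of order eleven of the automorphism group has order eleven. -/
theorem centralizer_aut_eleven {x : J4M22.M} (hx : orderOf x = 11) :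
    centralizer ({MulAut.conj x} : Set (MulAut J4M22.M)) = zpowers (MulAut.conj x) := by
  refine le_antisymm (fun α hα => ?_) (zpowers_le.2 (mem_centralizer_singleton_iff.2 rfl))
  rw [mem_centralizer_singleton_iff] at hα
  have hfix : α x = x := by
    apply J4M22.conj_injective
    rw [← conj_conjAut, hα, mul_inv_cancel_right]
  obtain ⟨π, hπ, hc⟩ := exists_perm α
  have h := hc x
  rw [hfix] at h
  have hcomm : (⟨π, hπ⟩ : M24) * m22Incl x = m22Incl x * ⟨π, hπ⟩ :=
    Subtype.ext (by
      show π * x.1 = x.1 * π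
      conv_rhs => rw [h]
      group)
  obtain ⟨k, hk⟩ := mem_zpowers_iff.1
    (centralizer_eleven_M24 (by rw [orderOf_injective _ m22Incl_injective, hx]) hcomm)
  refine mem_zpowers_iff.2 ⟨k, ?_⟩
  rw [← map_zpow]
  refine MulEquiv.ext fun y => Subtype.ext ?_
  have hk' : π = (x ^ k : J4M22.M).1 := by
    have := congrArg Subtype.val hk
    rw [← map_zpow] at this
    exact this.symm
  rw [hc y, hk']
  rfl

/-- The normaliser of a subgroup of order eleven of the automorphism group. -/
theorem normalizer_aut_eleven {x : J4M22.M} (hx : orderOf x = 11) :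
    Nat.card (normalizer ((zpowers (MulAut.conj x) : Subgroup (MulAut J4M22.M)) : Set (MulAut J4M22.M))) = 110 ∧
    ∀ a : J4M22.M, MulAut.conj a * MulAut.conj x * (MulAut.conj a)⁻¹ ≠ (MulAut.conj x)⁻¹ := by
  haveI : Finite (MulAut J4M22.M) := Finite.of_injective _ DFunLike.coe_injective
  haveI : Fact (Nat.Prime 11) := ⟨by norm_num⟩
  set φ : J4M22.M →* MulAut J4M22.M := MulAut.conj with hφ
  set Z := zpowers (φ x) with hZ
  set N := normalizer (Z : Set (MulAut J4M22.M))
  have hidx : (Inn J4M22.M).index = 2 := out_m22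
  haveI : (Inn J4M22.M).Normal := Subgroup.normal_of_index_eq_two hidx
  have hN55 := J4M22.card_normalizer_eleven hx
  refine ⟨?_, fun a e => ?_⟩
  swap
  · rw [← map_inv, ← map_mul, ← map_mul, ← map_inv] at e
    have he := J4M22.conj_injective e
    have hm : a ∈ normalizer ((zpowers x : Subgroup J4M22.M) : Set J4M22.M) := by
      refine mem_norm_zpowers.2 ?_
      rw [he, Subgroup.zpowers_inv]
    -- the normaliser has odd order, so `a` centralises `x`
    have h1 : a ^ 55 = 1 := by
      have := pow_card_eq_one' (G := normalizer ((zpowers x : Subgroup J4M22.M) : Set J4M22.M)) (x := ⟨a, hm⟩)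
      rw [hN55] at this
      exact congrArg Subtype.val this
    have h2 : Commute (a ^ 2) x := by
      show a ^ 2 * x = x * a ^ 2
      have h' : a * x⁻¹ * a⁻¹ = x := by rw [← conj_inv, he, inv_inv]
      calc a ^ 2 * x = a * (a * x * a⁻¹) * a := by rw [sq]; group
        _ = a * x⁻¹ * a := by rw [he]
        _ = (a * x⁻¹ * a⁻¹) * a ^ 2 := by rw [sq]; group
        _ = x * a ^ 2 := by rw [h']
    have h3 : Commute a x := by
      have : a = (a ^ 2) ^ 28 := by rw [← pow_mul, show 2 * 28 = 55 + 1 by norm_num, pow_succ, h1, one_mul]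
      rw [this]
      exact h2.pow_left 28
    rw [show a * x * a⁻¹ = x from mul_inv_eq_iff_eq_mul.2 h3.eq] at he
    have : x ^ 2 = 1 := by rw [pow_two]; nth_rw 1 [he]; exact inv_mul_cancel x
    have h := orderOf_dvd_of_pow_eq_one this
    rw [hx] at h
    norm_num at h
  -- the part inside the inner automorphisms
  have hNI : N ⊓ Inn J4M22.M = (normalizer ((zpowers x : Subgroup J4M22.M) : Set J4M22.M)).map φ := by
    ext b
    constructor
    · rintro ⟨hb, ⟨y, rfl⟩⟩
      refine ⟨y, ?_, rfl⟩
      have hb' := mem_norm_zpowers.1 hb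
      refine mem_norm_zpowers.2 (Subgroup.map_injective J4M22.conj_injective ?_)
      rw [MonoidHom.map_zpowers, MonoidHom.map_zpowers, map_mul, map_mul, map_inv]
      exact hb'
    · rintro ⟨y, hy, rfl⟩
      refine ⟨mem_norm_zpowers.2 ?_, ⟨y, rfl⟩⟩
      have := congrArg (Subgroup.map φ) (mem_norm_zpowers.1 hy)
      rwa [MonoidHom.map_zpowers, MonoidHom.map_zpowers, map_mul, map_mul, map_inv] at this
  have hNIcard : Nat.card ↥(N ⊓ Inn J4M22.M) = 55 := by
    rw [hNI, Subgroup.card_map_of_injective J4M22.conj_injective, hN55]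
  -- Frattini
  have hout : ∃ b ∈ N, b ∉ Inn J4M22.M := by
    obtain ⟨α, hα⟩ : ∃ α : MulAut J4M22.M, α ∉ Inn J4M22.M := by
      by_contra hh
      push Not at hh
      rw [show Inn J4M22.M = ⊤ from eq_top_iff.2 fun g _ => hh g, Subgroup.index_top] at hidx
      omega
    have hP : IsPGroup 11 ↥(zpowers x) := IsPGroup.of_card (n := 1) (by rw [Nat.card_zpowers, hx, pow_one])
    have hP' : IsPGroup 11 ↥(zpowers (α x)) :=
      IsPGroup.of_card (n := 1) (by rw [Nat.card_zpowers, MulEquiv.orderOf_eq, hx, pow_one])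
    have hi : ¬ 11 ∣ (zpowers x).index := by
      have := (zpowers x).card_mul_index
      rw [Nat.card_zpowers, hx, J4M22.card_M] at this
      omega
    let S : Sylow 11 J4M22.M := hP.toSylow hi
    obtain ⟨T, hT⟩ := hP'.exists_le_sylow
    obtain ⟨g, hg⟩ := MulAction.exists_smul_eq J4M22.M T S
    refine ⟨φ g * α, ?_, fun hh => hα ((Subgroup.mul_mem_cancel_left _ (show φ g ∈ Inn J4M22.M from ⟨g, rfl⟩)).1 hh)⟩
    have hmem : g * α x * g⁻¹ ∈ zpowers x := by
      show g * α x * g⁻¹ ∈ (S : Subgroup J4M22.M)
      rw [← hg, Sylow.coe_subgroup_smul]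
      exact ⟨α x, hT (mem_zpowers _), rfl⟩
    have heq : zpowers (g * α x * g⁻¹) = zpowers x := eq_of_le_of_card_ge (zpowers_le.2 hmem) (by
      rw [Nat.card_zpowers, Nat.card_zpowers, orderOf_conj7, MulEquiv.orderOf_eq])
    refine mem_norm_zpowers.2 ?_
    have := congrArg (Subgroup.map φ) heq
    rw [MonoidHom.map_zpowers, MonoidHom.map_zpowers, map_mul, map_mul, map_inv, hφ, ← conj_conjAut α x] at this
    convert this using 2
    group
    rfl
  obtain ⟨b, hb, hbI⟩ := hout
  have hi : ((Inn J4M22.M).subgroupOf N).index = 2 := by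
    have hd : ((Inn J4M22.M).subgroupOf N).index ∣ (Inn J4M22.M).index :=
      Subgroup.relIndex_dvd_index_of_normal _ _
    rw [hidx] at hd
    rcases (Nat.dvd_prime Nat.prime_two).1 hd with e | e
    · exact absurd (Subgroup.mem_subgroupOf.1 (by rw [Subgroup.index_eq_one.1 e]; exact Subgroup.mem_top _ :
        (⟨b, hb⟩ : N) ∈ (Inn J4M22.M).subgroupOf N)) hbI
    · exact e
  have := ((Inn J4M22.M).subgroupOf N).card_mul_index
  rw [hi, ← Subgroup.inf_subgroupOf_right, inf_comm,
    Nat.card_congr (Subgroup.subgroupOfEquivOfLe (inf_le_left : N ⊓ Inn J4M22.M ≤ N)).toEquiv, hNIcard] at this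
  omega

end CfsgLib.J4SylEleven
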