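import Cfsg.Agent.S5569
import Cfsg.Agent.J4Large.Centraliser
import Cfsg.Agent.J4SylEleven.AutEleven

/-!
The second class of involutions in a group of Janko-four type: existence, uniqueness, centraliser order
and centralisers of elements of order eleven inside the centraliser.
-/

set_option autoImplicit false
set_option linter.style.haveILetI false

namespace CfsgLib.J4SylEleven

open Cfsg Subgroup

variable {G : Type*} [Group G] [Finite G] [IsSimpleGroup G] {z : G}
  (hG : ¬ IsMulCommutative G) (hJ : Cfsg.IsOfJankoFourTypeAt z)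

include hG hJ

theorem exists_second : ∃ t : G, orderOf t = 2 ∧ ¬ IsConj z t := by
  obtain ⟨V, ⟨-, hV, hc⟩, -⟩ := Cfsg.Agent.S5566.result hG ⟨z, hJ⟩ (default : Sylow 2 G)
  obtain ⟨z', t, -, ht, ht1, -, hnc, -⟩ := Cfsg.Agent.S5568.result hG z hJ V hV hc
  exact ⟨t, orderOf_eq_prime (hV.2 t ht) ht1, hnc⟩

/-- Any two involutions outside the class of `z` are conjugate. -/
theorem second_conj {s t : G} (hs : orderOf s = 2) (ht : orderOf t = 2) (hsz : ¬ IsConj z s)
    (htz : ¬ IsConj z t) : IsConj s t := by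
  classical
  have hU : CfsgLib.J4CentT.UniqueEleven G := Cfsg.Agent.S5566.result hG ⟨z, hJ⟩
  obtain ⟨V0, ⟨-, hV, hcard⟩, -⟩ := hU (default : Sylow 2 G)
  obtain ⟨F⟩ := CfsgLib.J4CentT.exists_fr (z := z) V0 hV hcard
    (Cfsg.Agent.S5567.result hG ⟨z, hJ⟩ V0 hV hcard).2 (Cfsg.Agent.S5568.result hG z hJ V0 hV hcard)
  obtain ⟨E, hE⟩ := CfsgLib.J4CentT.exists_eData hJ F.zconj
  obtain ⟨z', t0, hz'V, ht0V, ht01, hzz', ht0z, h1771, h276, -⟩ :=
    Cfsg.Agent.S5568.result hG z hJ F.V F.elem F.card_V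
  set A := {v : G | ∃ n ∈ normalizer (F.V : Set G), n * z' * n⁻¹ = v} with hA
  set B := {v : G | ∃ n ∈ normalizer (F.V : Set G), n * t0 * n⁻¹ = v} with hB
  have hAV : A ⊆ (F.V : Set G) := by
    rintro v ⟨n, hn, rfl⟩; exact (mem_normalizer_iff.1 hn z').1 hz'V
  have hBV : B ⊆ (F.V : Set G) := by
    rintro v ⟨n, hn, rfl⟩; exact (mem_normalizer_iff.1 hn t0).1 ht0V
  have hd : Disjoint A B := by
    rw [Set.disjoint_left]
    rintro v ⟨n, -, rfl⟩ ⟨m, -, e⟩
    exact ht0z (hzz'.trans ((isConj_iff.2 ⟨n, rfl⟩).trans ((e ▸ isConj_iff.2 ⟨m, rfl⟩ : IsConj t0 _).symm)))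
  have hz1 : z' ≠ 1 := by
    intro e
    rw [e] at hzz'
    obtain ⟨P, hP, -⟩ := hJ
    rw [isConj_one_left.1 hzz', orderOf_one] at hP
    norm_num at hP
  have hsub : A ∪ B ⊆ (F.V : Set G) \ {1} := by
    rintro v (⟨n, hn, rfl⟩ | ⟨n, hn, rfl⟩)
    · exact ⟨hAV ⟨n, hn, rfl⟩, by simp [hz1]⟩
    · exact ⟨hBV ⟨n, hn, rfl⟩, by simp [ht01]⟩
  have hall : A ∪ B = (F.V : Set G) \ {1} := by
    refine Set.eq_of_subset_of_ncard_le hsub ?_
    rw [Set.ncard_union_eq hd, h1771, h276, Set.ncard_sdiff_singleton_of_mem F.V.one_mem,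
      ← Nat.card_coe_set_eq, SetLike.coe_sort_coe, F.card_V]
  have key : ∀ u : G, orderOf u = 2 → ¬ IsConj z u → IsConj t0 u := by
    intro u hu huz
    rcases hE.involutions hU hu with h | ⟨c, hc, a, hac, h⟩
    · exact absurd (F.zconj.trans h.symm) huz
    · have hp : CfsgLib.J4CentT.pairNo a c < 2048 := CfsgLib.J4CentT.cd_lt _
      have hp1 : F.b (CfsgLib.J4CentT.pairNo a c) ≠ 1 := fun e => by
        rw [e] at h
        rw [isConj_one_left.1 h, orderOf_one] at hu
        norm_num at hu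
      rcases hall.ge ⟨F.b_mem _ hp, hp1⟩ with ⟨n, -, e⟩ | ⟨n, -, e⟩
      · exact absurd (hzz'.trans ((isConj_iff.2 ⟨n, e⟩).trans h.symm)) huz
      · exact (isConj_iff.2 ⟨n, e⟩ : IsConj t0 _).trans h.symm
  exact (key s hs hsz).symm.trans (key t ht htz)

theorem card_centralizer_second {t : G} (ht : orderOf t = 2) (htz : ¬ IsConj z t) :
    Nat.card (centralizer ({t} : Set G)) = 1816657920 := by
  obtain ⟨V, K, -, hKC, hCN, -, hVc, hKV, hKVs, ⟨e⟩⟩ := Cfsg.Agent.S5569.result hG z hJ t ht htz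
  rw [← hKVs, CfsgLib.Solvable.card_sup_of_disjoint (hKC.trans hCN) hKV, hVc, Nat.card_congr e.toEquiv,
    CfsgLib.J4Local.card_aut_m22]
  norm_num

theorem exists_eleven_second {t : G} (ht : orderOf t = 2) (htz : ¬ IsConj z t) :
    ∃ w ∈ centralizer ({t} : Set G), orderOf w = 11 := by
  haveI : Fact (Nat.Prime 11) := ⟨by norm_num⟩
  obtain ⟨w, hw⟩ := exists_prime_orderOf_dvd_card' (G := centralizer ({t} : Set G)) 11
    (by rw [card_centralizer_second hG hJ ht htz]; norm_num)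
  exact ⟨w, w.2, by rw [Subgroup.orderOf_coe, hw]⟩

/-- Inside the centraliser of a second involution an element of order eleven has centraliser of order 22. -/
theorem card_cent_second_eleven {t w : G} (ht : orderOf t = 2) (htz : ¬ IsConj z t)
    (hw : w ∈ centralizer ({t} : Set G)) (hwo : orderOf w = 11) :
    Nat.card ↥(centralizer ({t} : Set G) ⊓ centralizer ({w} : Set G)) = 22 := by
  haveI : Fact (Nat.Prime 11) := ⟨by norm_num⟩
  obtain ⟨V, K, hVW, hKW, hCN, hV, hVc, hKV, hKVs, ⟨e⟩⟩ := Cfsg.Agent.S5569.result hG z hJ t ht htz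
  have hCV := (Cfsg.Agent.S5567.result hG ⟨z, hJ⟩ V hV hVc).1
  set C := centralizer ({t} : Set G) with hC
  haveI : (V.subgroupOf C).Normal := Subgroup.normal_subgroupOf_of_le_normalizer hCN
  have hcomp : IsComplement' (K.subgroupOf C) (V.subgroupOf C) := by
    refine isComplement'_of_card_mul_and_disjoint ?_ ?_
    · rw [Nat.card_congr (subgroupOfEquivOfLe hKW).toEquiv, Nat.card_congr (subgroupOfEquivOfLe hVW).toEquiv,
        ← CfsgLib.Solvable.card_sup_of_disjoint (hKW.trans hCN) hKV, hKVs]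
    · rw [disjoint_iff, eq_bot_iff]
      intro a ha
      have h' : (a : G) ∈ K ⊓ V := ⟨ha.1, ha.2⟩
      rw [hKV, Subgroup.mem_bot] at h'
      exact Subtype.ext h'
  let q : C ⧸ V.subgroupOf C ≃* MulAut ↥Spor.M22 :=
    hcomp.QuotientMulEquiv.trans ((subgroupOfEquivOfLe hKW).trans e)
  let f : C →* MulAut ↥Spor.M22 := q.toMonoidHom.comp (QuotientGroup.mk' (V.subgroupOf C))
  have hker : ∀ c : C, f c = 1 ↔ (c : G) ∈ V := fun c => by
    show q (QuotientGroup.mk' (V.subgroupOf C) c) = 1 ↔ _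
    rw [MulEquiv.map_eq_one_iff, QuotientGroup.mk'_apply, QuotientGroup.eq_one_iff, Subgroup.mem_subgroupOf]
  have hwV : w ∉ V := fun h => by
    have := Subgroup.orderOf_dvd_natCard _ h
    rw [hwo, hVc] at this
    norm_num at this
  have ha : orderOf (f ⟨w, hw⟩) = 11 := by
    refine orderOf_eq_prime ?_ fun h => hwV ((hker _).1 h)
    rw [← map_pow, show (⟨w, hw⟩ : C) ^ 11 = 1 from Subtype.ext (by
      rw [SubgroupClass.coe_pow, ← hwo, pow_orderOf_eq_one]; rfl), map_one]
  obtain ⟨x, hx, hxe⟩ := exists_inner_eleven ha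
  have hcA : Nat.card (centralizer ({f ⟨w, hw⟩} : Set (MulAut ↥Spor.M22))) = 11 := by
    rw [← hxe, centralizer_aut_eleven hx, Nat.card_zpowers, hxe, ha]
  set D := (C ⊓ centralizer ({w} : Set G)).subgroupOf C with hD
  have hDc : Nat.card D = Nat.card ↥(C ⊓ centralizer ({w} : Set G)) :=
    Nat.card_congr (subgroupOfEquivOfLe inf_le_left).toEquiv
  set A := V ⊓ centralizer ({w} : Set G) with hAdef
  have hA2 : Nat.card A = 2 := by
    have hne : ¬ V ≤ centralizer ({w} : Set G) := fun hle => hwV (hCV (mem_centralizer_iff.2 fun y hy =>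
      mem_centralizer_singleton_iff.1 (hle hy)))
    have h8 := CfsgLib.J4Large.card_fix_le hwo (Or.inl rfl) hVc (hCN hw) hne
    obtain ⟨k, -, hk⟩ := (Nat.dvd_prime_pow Nat.prime_two).1
      (hVc ▸ Subgroup.card_dvd_of_le (inf_le_left : A ≤ V))
    have hmod := CfsgLib.J4Local.modEq_ncard_fixed (q := 11) (g := w) (by rw [← hwo, pow_orderOf_eq_one])
      (V : Set G) (fun v hv => (Subgroup.mem_normalizer_iff.1 (hCN hw) v).1 hv)
    have hfix : {s | s ∈ (V : Set G) ∧ w * s = s * w} = (A : Set G) := by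
      ext s
      simp only [Set.mem_setOf_eq, SetLike.mem_coe, hAdef, Subgroup.mem_inf, mem_centralizer_singleton_iff]
      exact and_congr_right fun _ => eq_comm
    rw [hfix, ← Nat.card_coe_set_eq, ← Nat.card_coe_set_eq] at hmod
    change Nat.card V % 11 = Nat.card A % 11 at hmod
    rw [hVc, hk] at hmod
    rw [hk] at h8 ⊢
    have hk3 : k ≤ 3 := (Nat.pow_le_pow_iff_right (by norm_num : 1 < 2)).1 h8
    interval_cases k <;> simp_all
  refine Nat.dvd_antisymm ?_ ?_
  · rw [← hDc, ← (f.comp D.subtype).ker.card_mul_index, index_ker]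
    refine Nat.mul_dvd_mul (b := 2) (d := 11) ?_ ?_
    · have hle : (f.comp D.subtype).ker.map (C.subtype.comp D.subtype) ≤ A := by
        rintro _ ⟨d, hd, rfl⟩
        exact ⟨(hker d.1).1 hd, d.2.2⟩
      have h := Subgroup.card_dvd_of_le hle
      rwa [Subgroup.card_map_of_injective (f := C.subtype.comp D.subtype)
        (C.subtype_injective.comp D.subtype_injective), hA2] at h
    · rw [← hcA]
      refine Subgroup.card_dvd_of_le ?_
      rintro _ ⟨d, rfl⟩
      refine mem_centralizer_singleton_iff.2 ?_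
      show f d.1 * f ⟨w, hw⟩ = f ⟨w, hw⟩ * f d.1
      rw [← map_mul, ← map_mul]
      exact congrArg f (Subtype.ext (mem_centralizer_singleton_iff.1 d.2.2))
  · have hco : Commute t w := (mem_centralizer_singleton_iff.1 hw).symm
    have h22 : orderOf (t * w) = 22 := by
      rw [hco.orderOf_mul_eq_mul_orderOf_of_coprime (by rw [ht, hwo]; norm_num), ht, hwo]
    rw [← h22]
    exact Subgroup.orderOf_dvd_natCard _ ⟨mem_centralizer_singleton_iff.2 ((Commute.refl t).mul_left hco.symm).eq,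
      mem_centralizer_singleton_iff.2 (hco.mul_left (Commute.refl w)).eq⟩

end CfsgLib.J4SylEleven
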