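import Cfsg.Agent.S4441
import Cfsg.Agent.Blocks.Congr
import Cfsg.Agent.Blocks.CharExtra

/-!
Degrees modulo a prime whose Sylow subgroup has that order and is self-centralising: the irreducible
characters are congruent to `0, 1, -1`, unless two further characters agree with them on the regular
elements.
-/

set_option autoImplicit false
set_option linter.style.haveILetI false

namespace CfsgLib.J4SylEleven

open Cfsg CfsgLib.Block

universe u

variable {G : Type u} [Group G] [Fintype G]

omit [Fintype G] in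
theorem charDegree_eq {χ : G → ℂ} {d : ℕ} (hd : χ 1 = (d : ℂ)) : charDegree χ = d := by
  rw [charDegree, hd, Complex.natCast_re, Nat.floor_natCast]

theorem mem_principalBlock {q : ℕ} [hqp : Fact q.Prime] {M : Ideal AlgInt} (hM : IsPModular q M)
    (U : Sylow q G) (hU : Nat.card U = q)
    (hC : ∀ V : Sylow q G, Subgroup.centralizer ((V : Subgroup G) : Set G) = (V : Subgroup G))
    (χ : IrrCharacter G) {d : ℕ} (hd : (χ : G → ℂ) 1 = (d : ℂ)) (hqd : ¬ q ∣ d) :
    χ ∈ principalBlock M G := by
  haveI := isPrime_of_isPModular hM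
  have hG : q ∣ Nat.card G := by
    have := (U : Subgroup G).card_subgroup_dvd_card
    rwa [hU] at this
  show SameBlock M (fun _ : G => (1 : ℂ)) (χ : G → ℂ)
  intro h
  set i := (Subgroup.centralizer ({h} : Set G)).index
  have hd0 : (d : ℂ) ≠ 0 := by
    intro e
    exact hqd (by simp [Nat.cast_eq_zero.mp e])
  have key : centralChar (fun _ : G => (1 : ℂ)) h - centralChar (χ : G → ℂ) h =
      ((i : ℂ) * ((χ : G → ℂ) 1 - (χ : G → ℂ) h)) * ((d : ℂ))⁻¹ := by
    simp only [centralChar, hd, i]
    field_simp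
  rw [key]
  refine memLocalIdeal_mul_right ?_ (memLocalRing_natCast_inv hM hqd)
  by_cases hi : q ∣ i
  · exact memLocalIdeal_mul_right ((memLocalIdeal_natCast_iff hM).mpr hi)
      (memLocalRing_sub (irr_mem χ 1) (irr_mem χ h))
  · refine memLocalIdeal_mul_left (natCast_mem_localRing i) ?_
    have hdvd : q ∣ Nat.card ↥(Subgroup.centralizer ({h} : Set G)) := by
      rw [← (Subgroup.centralizer ({h} : Set G)).card_mul_index] at hG
      exact (hqp.out.dvd_mul.mp hG).resolve_right hi
    obtain ⟨r, hr⟩ := exists_prime_orderOf_dvd_card' q hdvd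
    rw [← Subgroup.orderOf_coe] at hr
    have hcardr : Nat.card ↥(Subgroup.zpowers (r : G)) = q := by rw [Nat.card_zpowers, hr]
    have hiU : ¬ q ∣ (Subgroup.zpowers (r : G)).index := by
      have h1 := U.not_dvd_index
      have e : (Subgroup.zpowers (r : G)).index = (U : Subgroup G).index := by
        have e1 := (Subgroup.zpowers (r : G)).card_mul_index
        have e2 := (U : Subgroup G).card_mul_index
        rw [hcardr] at e1
        rw [hU] at e2
        exact Nat.eq_of_mul_eq_mul_left hqp.out.pos (e1.trans e2.symm)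
      rwa [e]
    let V : Sylow q G := (IsPGroup.of_card (n := 1) (by rw [pow_one, hcardr])).toSylow hiU
    have hmem : h ∈ (V : Subgroup G) := by
      rw [← hC V]
      refine Subgroup.mem_centralizer_iff.mpr fun v hv => ?_
      obtain ⟨j, rfl⟩ := Subgroup.mem_zpowers_iff.mp (show v ∈ Subgroup.zpowers (r : G) from hv)
      exact ((show Commute (r : G) h from Subgroup.mem_centralizer_singleton_iff.mp r.2).zpow_left j).eq
    have hord : h ^ q = 1 := by
      have h1 := Subgroup.orderOf_dvd_natCard _ (show h ∈ Subgroup.zpowers (r : G) from hmem)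
      rw [hcardr] at h1
      exact orderOf_dvd_iff_pow_eq_one.mp h1
    have hcong := char_cong_pPart hM (Chr.isCharacter_irr χ) (Commute.one_right h) (n := 1)
      (by rwa [pow_one]) (m := 1) hqp.out.not_dvd_one (one_pow 1)
    rw [mul_one] at hcong
    exact memLocalIdeal_sub_comm hcong

/-- Degrees modulo `q`. -/
theorem degree_mod {q : ℕ} [hqp : Fact q.Prime] (hq : q ≠ 2) (U : Sylow q G) (hU : Nat.card U = q)
    (hC : ∀ V : Sylow q G, Subgroup.centralizer ((V : Subgroup G) : Set G) = (V : Subgroup G))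
    {e : ℕ} (hN : Nat.card ↥(Subgroup.normalizer ((U : Subgroup G) : Set G)) = q * e)
    (he : e = q - 1 ∨ 3 * e ≤ q - 1) {χ : G → ℂ} (hχ : IsIrrCharacter G χ) {d : ℕ} (hd : χ 1 = (d : ℂ))
    (huniq : ∀ θ θ' : G → ℂ, IsIrrCharacter G θ → IsIrrCharacter G θ' → θ ≠ χ → θ' ≠ χ → θ' ≠ θ →
      (∀ g, ¬ q ∣ orderOf g → θ g = χ g) → (∀ g, ¬ q ∣ orderOf g → θ' g = χ g) → False) :
    (q : ℤ) ∣ d ∨ (q : ℤ) ∣ (d : ℤ) - 1 ∨ (q : ℤ) ∣ (d : ℤ) + 1 := by
  classical
  by_cases hqd : q ∣ d
  · exact Or.inl (Int.natCast_dvd_natCast.mpr hqd)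
  right
  obtain ⟨M, hM⟩ := exists_isPModular hqp.out
  have hrel : (Subgroup.centralizer ((U : Subgroup G) : Set G)).relIndex
      (Subgroup.normalizer ((U : Subgroup G) : Set G)) = e := by
    have h := Subgroup.relIndex_mul_relIndex ⊥ (Subgroup.centralizer ((U : Subgroup G) : Set G))
      (Subgroup.normalizer ((U : Subgroup G) : Set G)) bot_le (Subgroup.centralizer_le_normalizer _)
    rw [Subgroup.relIndex_bot_left, Subgroup.relIndex_bot_left, hN, hC U, hU] at h
    rw [hC U]
    exact Nat.eq_of_mul_eq_mul_left hqp.out.pos h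
  obtain ⟨X, Y, hXY, -, -, hY, εX, ε, hX, hε, hYd, hYeq, -⟩ :=
    Cfsg.Agent.S4441.result q M hM hq U hU e hrel
  have hmem := mem_principalBlock hM U hU hC ⟨χ, hχ⟩ hd hqd
  rw [hXY] at hmem
  rcases hmem with h | h
  · obtain ⟨hs, hc, -⟩ := hX _ h
    rw [charDegree_eq hd] at hc
    rcases hs with hs | hs <;> rw [hs] at hc
    · exact Or.inl hc.symm.dvd
    · right; simpa using hc.symm.dvd
  · rcases he with he | he
    · have hc := hYd _ h
      rw [charDegree_eq hd, he, Nat.cast_sub hqp.out.one_le, Nat.cast_one] at hc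
      have hdv := hc.symm.dvd
      rcases hε with hs | hs <;> rw [hs] at hdv
      · right
        have := dvd_add hdv (dvd_refl (q : ℤ))
        rwa [show (d : ℤ) - 1 * ((q : ℤ) - 1) + (q : ℤ) = (d : ℤ) + 1 by ring] at this
      · left
        have := dvd_sub hdv (dvd_refl (q : ℤ))
        rwa [show (d : ℤ) - -1 * ((q : ℤ) - 1) - (q : ℤ) = (d : ℤ) - 1 by ring] at this
    · exfalso
      have he0 : 0 < e := by
        rcases Nat.eq_zero_or_pos e with h0 | h0
        · rw [h0, mul_zero] at hN
          exact absurd hN Nat.card_pos.ne'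
        · exact h0
      have h3 : 3 ≤ Nat.card Y := by rw [hY, Nat.le_div_iff_mul_le he0]; exact he
      haveI : Finite (IrrCharacter G) := CfsgLib.Char.finite_irrCharacter G
      haveI := Fintype.ofFinite Y
      rw [Nat.card_eq_fintype_card, ← Finset.card_univ] at h3
      obtain ⟨⟨θ, hθ⟩, hθ', hne⟩ := Finset.exists_mem_ne (s := Finset.univ) (by omega) (⟨_, h⟩ : Y)
      obtain ⟨⟨θ', hθ''⟩, hm, hne'⟩ := Finset.exists_mem_ne
        (s := (Finset.univ : Finset Y).erase ⟨θ, hθ⟩)
        (by rw [Finset.card_erase_of_mem (Finset.mem_univ _)]; omega) (⟨_, h⟩ : Y)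
      refine huniq (θ : G → ℂ) (θ' : G → ℂ) θ.2 θ'.2 (fun e' => hne (Subtype.ext (Subtype.ext e')))
        (fun e' => hne' (Subtype.ext (Subtype.ext e'))) (fun e' => ?_)
        (fun g hg => hYeq _ hθ _ h g hg) (fun g hg => hYeq _ hθ'' _ h g hg)
      exact (Finset.mem_erase.mp hm).1 (Subtype.ext (Subtype.ext e'))

end CfsgLib.J4SylEleven
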