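import Cfsg.Agent.J4SylEleven.Main
import Cfsg.Agent.J4SylEleven.Abelian.Exc
import Cfsg.Agent.J4Large.Adapter
import Cfsg.Agent.S5567
import Cfsg.Agent.S5569
import Cfsg.Agent.S5570
import Cfsg.Agent.S5573

/-!
The Sylow 11-subgroups of a group of Janko-four type from the order of the group.
-/

set_option autoImplicit false

namespace CfsgLib.J4SylEleven

open Cfsg CfsgLib.J4Local Subgroup

variable {G : Type*} [Group G] [Finite G] [IsSimpleGroup G]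

theorem inputs_of_order (hG : ¬ IsMulCommutative G) {z : G} {P : Subgroup G}
    (hJP : IsOfJankoFourTypeWith z P) (horder : Nat.card G = CfsgLib.J4Large.orderJ4) :
    CfsgLib.J4Large.Inputs z P := by
  have hz : IsOfJankoFourTypeAt z := ⟨P, hJP⟩
  refine ⟨hJP, (Cfsg.Agent.S5563.result hG z P hJP).2.2.2.2, Cfsg.Agent.S5564.result hG ⟨z, hz⟩, horder,
    fun Q hQ hc => (Cfsg.Agent.S5572.result hG z hz Q hc hQ).2.2.2,
    fun Q hQ hc => (Cfsg.Agent.S5573.result hG z hz Q hc hQ).2.2.2, fun t ht hnc => ?_, ?_, ?_⟩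
  · obtain ⟨V, K, -, -, hCN, hV, hVc, hKV, hKVs, he⟩ := Cfsg.Agent.S5569.result hG z hz t ht hnc
    exact ⟨V, K, hCN, hV, hVc, (Cfsg.Agent.S5567.result hG ⟨z, hz⟩ V hV hVc).1, hKV, hKVs, he⟩
  · obtain ⟨V, ⟨-, hV, hVc⟩, -⟩ := Cfsg.Agent.S5566.result hG ⟨z, hz⟩ (default : Sylow 2 G)
    obtain ⟨-, K, -, -, -, hK⟩ := Cfsg.Agent.S5567.result hG ⟨z, hz⟩ V hV hVc
    exact ⟨K, hK⟩
  · obtain ⟨⟨A, hA, hAc, hAC⟩, -, h⟩ := Cfsg.Agent.S5570.result hG ⟨z, hz⟩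
    obtain ⟨⟨B, -, -, -, ⟨e⟩⟩, -⟩ := h A hA hAc hAC
    exact ⟨B, by rw [Nat.card_congr e.toEquiv, CfsgLib.J4Large.card_sl_five]⟩

/-- The Sylow 11-subgroups, given the order. -/
theorem main_of_order (hG : ¬ IsMulCommutative G) (hJ : IsOfJankoFourType G)
    (horder : Nat.card G = CfsgLib.J4Large.orderJ4) (S : Sylow 11 G) :
    IsExtraspecial 11 ↥(S : Subgroup G) ∧ Nat.card ↥(S : Subgroup G) = 11 ^ 3 ∧
      Monoid.exponent ↥(S : Subgroup G) = 11 ∧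
      Nat.card ↥(normalizer ((S : Subgroup G) : Set G)) = 2 ^ 4 * 3 * 5 * 11 ^ 3 ∧
      ∃ K : Subgroup G, K ≤ normalizer ((S : Subgroup G) : Set G) ∧ Nonempty (↥K ≃* GL (Fin 2) (ZMod 3)) := by
  obtain ⟨z, P, hJP⟩ := hJ
  refine structure_of (inputs_of_order hG hJP horder) (fun x U B hU => ?_) S
  obtain ⟨t, A⟩ := B.abel hU hG
  exact A.false

end CfsgLib.J4SylEleven
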