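import Cfsg.Agent.J4SylEleven.Arith
import Cfsg.Agent.Char.Orthogonality
import Cfsg.Agent.Char.Inner
import Cfsg.Agent.Char.Central
import Cfsg.Agent.Char.Galois
import Cfsg.Agent.ThreeCC.Invol

/-!
Janko-four type, Sylow 11: the character theoretic contradiction from five class functions of norm three
with two common constituents.
-/

set_option autoImplicit false
set_option linter.style.haveILetI false

namespace CfsgLib.J4SylEleven

open Cfsg CfsgLib.Char
open scoped ComplexConjugate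

/-- Three integers `±1` with zero outside: sums of squares three. -/
theorem sq_le_three_cases {a : ℤ} (h : a * a ≤ 3) : a = 1 ∨ a = -1 ∨ a = 0 := by
  have h1 : a ≤ 1 := by nlinarith
  have h2 : -1 ≤ a := by nlinarith
  omega

/-- Five three-element sets meeting pairwise in two points share two points. -/
theorem exists_common_pair {α : Type*} [DecidableEq α] (S : Fin 5 → Finset α) (h3 : ∀ i, (S i).card = 3)
    (h2 : ∀ i j, i ≠ j → (S i ∩ S j).card = 2) :
    ∃ p q, p ≠ q ∧ ∃ r : Fin 5 → α, Function.Injective r ∧ ∀ i, r i ≠ p ∧ r i ≠ q ∧ S i = {p, q, r i} := by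
  obtain ⟨p, q, hpq, hPQ⟩ := Finset.card_eq_two.mp (h2 0 1 (by decide))
  have hT : ∀ i, p ∈ S i ∧ q ∈ S i := by
    have hp0 : p ∈ S 0 := (Finset.mem_inter.mp (hPQ ▸ Finset.mem_insert_self p {q})).1
    have hq0 : q ∈ S 0 := (Finset.mem_inter.mp
      (hPQ ▸ Finset.mem_insert_of_mem (Finset.mem_singleton_self q))).1
    have hp1 : p ∈ S 1 := (Finset.mem_inter.mp (hPQ ▸ Finset.mem_insert_self p {q})).2
    have hq1 : q ∈ S 1 := (Finset.mem_inter.mp
      (hPQ ▸ Finset.mem_insert_of_mem (Finset.mem_singleton_self q))).2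
    -- a set missing one of the two points lies in the union of the first two
    have hsub : ∀ i, ¬ (p ∈ S i ∧ q ∈ S i) → S i ⊆ S 0 ∪ S 1 := by
      intro i hi
      by_cases e0 : i = 0
      · subst e0; exact Finset.subset_union_left
      by_cases e1 : i = 1
      · subst e1; exact Finset.subset_union_right
      have c0 := h2 i 0 e0
      have c1 := h2 i 1 e1
      have hov : (S i ∩ S 0) ∩ (S i ∩ S 1) ⊂ {p, q} := by
        refine Finset.ssubset_iff_subset_ne.mpr ⟨fun x hx => ?_, fun e => hi ?_⟩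
        · simp only [Finset.mem_inter] at hx
          rw [← hPQ]; exact Finset.mem_inter.mpr ⟨hx.1.2, hx.2.2⟩
        · have hp : p ∈ (S i ∩ S 0) ∩ (S i ∩ S 1) := e ▸ Finset.mem_insert_self p {q}
          have hq : q ∈ (S i ∩ S 0) ∩ (S i ∩ S 1) := e ▸ Finset.mem_insert_of_mem (Finset.mem_singleton_self q)
          exact ⟨(Finset.mem_inter.mp (Finset.mem_inter.mp hp).1).1, (Finset.mem_inter.mp (Finset.mem_inter.mp hq).1).1⟩
      have hov' := Finset.card_lt_card hov
      rw [Finset.card_pair hpq] at hov'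
      have hu := Finset.card_union_add_card_inter (S i ∩ S 0) (S i ∩ S 1)
      have hle : (S i ∩ S 0) ∪ (S i ∩ S 1) ⊆ S i :=
        Finset.union_subset Finset.inter_subset_left Finset.inter_subset_left
      have hc : ((S i ∩ S 0) ∪ (S i ∩ S 1)).card = 3 := by
        have := Finset.card_le_card hle; rw [h3] at this; omega
      have he := Finset.eq_of_subset_of_card_le hle (by rw [hc, h3])
      intro x hx
      rw [← he] at hx
      simp only [Finset.mem_union, Finset.mem_inter] at hx ⊢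
      tauto
    have hU : (S 0 ∪ S 1).card = 4 := by
      have := Finset.card_union_add_card_inter (S 0) (S 1)
      rw [h3, h3, h2 0 1 (by decide)] at this
      omega
    -- among the five sets, one more contains both points
    obtain ⟨k, hk0, hk1, hkT⟩ : ∃ k : Fin 5, k ≠ 0 ∧ k ≠ 1 ∧ p ∈ S k ∧ q ∈ S k := by
      by_contra hno
      push Not at hno
      have hmaps : ∀ i ∈ (Finset.univ : Finset (Fin 5)), S i ∈ (S 0 ∪ S 1).powersetCard 3 := by
        intro i _
        refine Finset.mem_powersetCard.mpr ⟨?_, h3 i⟩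
        by_cases e0 : i = 0
        · subst e0; exact Finset.subset_union_left
        by_cases e1 : i = 1
        · subst e1; exact Finset.subset_union_right
        exact hsub i fun h => hno i e0 e1 h.1 h.2
      obtain ⟨a, -, b, -, hab, he⟩ := Finset.exists_ne_map_eq_of_card_lt_of_maps_to
        (by rw [Finset.card_powersetCard, hU]; decide) hmaps
      have := h2 a b hab
      rw [he, Finset.inter_self, h3] at this
      omega
    intro i
    by_contra hi
    have hik : i ≠ k := fun e => hi (e ▸ hkT)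
    have hs := hsub i hi
    have c := h2 i k hik
    -- the extra point of the third set is outside the union
    have hne : ¬ S k ⊆ S 0 ∪ S 1 := by
      intro hsk
      obtain ⟨c0, hc0⟩ : ∃ c0, c0 ∈ S k ∧ c0 ≠ p ∧ c0 ≠ q := by
        by_contra hno
        push Not at hno
        have : S k ⊆ {p, q} := fun x hx => by
          rw [Finset.mem_insert, Finset.mem_singleton]
          by_contra h; push Not at h; exact h.2 (hno x hx h.1)
        have := Finset.card_le_card this
        rw [h3, Finset.card_pair hpq] at this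
        omega
      obtain ⟨hck, hcp, hcq⟩ := hc0
      have h3k : ({p, q, c0} : Finset α) = S k := Finset.eq_of_subset_of_card_le
        (by simp [Finset.insert_subset_iff, hkT.1, hkT.2, hck])
        (by rw [h3, Finset.card_insert_of_notMem (by simp [hpq, hcp.symm]), Finset.card_pair hcq.symm])
      rcases Finset.mem_union.mp (hsk hck) with h | h
      · have : S k ⊆ S k ∩ S 0 := fun x hx => Finset.mem_inter.mpr ⟨hx, by
          rw [← h3k] at hx; simp only [Finset.mem_insert, Finset.mem_singleton] at hx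
          rcases hx with rfl | rfl | rfl <;> assumption⟩
        have := Finset.card_le_card this; rw [h3, h2 k 0 hk0] at this; omega
      · have : S k ⊆ S k ∩ S 1 := fun x hx => Finset.mem_inter.mpr ⟨hx, by
          rw [← h3k] at hx; simp only [Finset.mem_insert, Finset.mem_singleton] at hx
          rcases hx with rfl | rfl | rfl <;> assumption⟩
        have := Finset.card_le_card this; rw [h3, h2 k 1 hk1] at this; omega
    obtain ⟨c0, hck, hcU⟩ := Finset.not_subset.mp hne
    have hsub2 : S i ∩ S k ⊂ {p, q} := by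
      refine Finset.ssubset_iff_subset_ne.mpr ⟨fun x hx => ?_, fun e => hi ?_⟩
      · rw [Finset.mem_inter] at hx
        have hx1 := hs hx.1
        by_contra hxpq
        simp only [Finset.mem_insert, Finset.mem_singleton, not_or] at hxpq
        have : ({p, q, x, c0} : Finset α) ⊆ S k := by
          simp [Finset.insert_subset_iff, hkT.1, hkT.2, hx.2, hck]
        have hcard := Finset.card_le_card this
        rw [h3, Finset.card_insert_of_notMem, Finset.card_insert_of_notMem, Finset.card_pair] at hcard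
        · omega
        · exact fun e => hcU (e ▸ hx1)
        · simp only [Finset.mem_insert, Finset.mem_singleton, not_or]
          exact ⟨Ne.symm hxpq.2, fun e => hcU (e ▸ Finset.mem_union_left _ hq0)⟩
        · simp only [Finset.mem_insert, Finset.mem_singleton, not_or]
          exact ⟨hpq, Ne.symm hxpq.1, fun e => hcU (e ▸ Finset.mem_union_left _ hp0)⟩
      · have hp : p ∈ S i ∩ S k := e ▸ Finset.mem_insert_self p {q}
        have hq : q ∈ S i ∩ S k := e ▸ Finset.mem_insert_of_mem (Finset.mem_singleton_self q)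
        exact ⟨(Finset.mem_inter.mp hp).1, (Finset.mem_inter.mp hq).1⟩
    have := Finset.card_lt_card hsub2
    rw [c, Finset.card_pair hpq] at this
    omega
  have hr : ∀ i, ∃ r, r ≠ p ∧ r ≠ q ∧ S i = {p, q, r} := by
    intro i
    have : ¬ S i ⊆ {p, q} := fun h => by
      have := Finset.card_le_card h; rw [h3, Finset.card_pair hpq] at this; omega
    obtain ⟨r, hr, hr'⟩ := Finset.not_subset.mp this
    simp only [Finset.mem_insert, Finset.mem_singleton, not_or] at hr'
    refine ⟨r, hr'.1, hr'.2, (Finset.eq_of_subset_of_card_le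
      (by simp [Finset.insert_subset_iff, (hT i).1, (hT i).2, hr]) ?_).symm⟩
    rw [h3, Finset.card_insert_of_notMem (by simp [hpq, Ne.symm hr'.1]), Finset.card_pair (Ne.symm hr'.2)]
  choose r hr using hr
  refine ⟨p, q, hpq, r, fun i j e => ?_, hr⟩
  by_contra hij
  have := h2 i j hij
  rw [(hr i).2.2, (hr j).2.2, e, Finset.inter_self, ← e, ← (hr i).2.2, h3] at this
  omega

theorem fin5_succ_ne : ∀ i : Fin 5, i + 1 ≠ i := by decide

/-- The algebra of the quadratic identity. -/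
theorem three_terms {a b e bp bq dp dq : ℂ} (ha : a * a = 1) (hb : b * b = 1) (he : e * e = 1)
    (hp : dp ≠ 0) (hq : dq ≠ 0) (hs : a * dp + b * dq ≠ 0) :
    a * (bp * bp) / dp + (b * (bq * bq) / dq +
      e * ((-e * (a * bp + b * bq)) * (-e * (a * bp + b * bq))) / (-e * (a * dp + b * dq))) =
      (a * bp * (b * dq) - b * bq * (a * dp)) * (a * bp * (b * dq) - b * bq * (a * dp)) /
        ((a * dp) * (b * dq) * (a * dp + b * dq)) := by
  rcases mul_self_eq_one_iff.mp ha with rfl | rfl <;> rcases mul_self_eq_one_iff.mp hb with rfl | rfl <;>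
    rcases mul_self_eq_one_iff.mp he with rfl | rfl <;>
    simp only [one_mul, neg_mul, mul_neg, neg_neg] at hs ⊢ <;> field_simp <;> ring

universe u

variable {G : Type u} [Group G] [Fintype G]

theorem okDeg_of {d : ℕ} (h : ∀ q ∈ ([23, 29, 31, 37, 43] : List ℕ),
    (q : ℤ) ∣ d ∨ (q : ℤ) ∣ (d : ℤ) - 1 ∨ (q : ℤ) ∣ (d : ℤ) + 1) : okDeg d = true := by
  have hdd : d ≤ d * d * d := by
    rcases Nat.eq_zero_or_pos d with rfl | hd
    · simp
    · exact Nat.le_mul_of_pos_left d (Nat.mul_pos hd hd)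
  have key : ∀ q ∈ ([23, 29, 31, 37, 43] : List ℕ), q ∣ d * d * d - d := by
    intro q hq
    rw [← Int.natCast_dvd_natCast, Nat.cast_sub hdd]
    push_cast
    rw [show (d : ℤ) * d * d - d = d * (((d : ℤ) - 1) * ((d : ℤ) + 1)) by ring]
    rcases h q hq with h | h | h
    · exact dvd_mul_of_dvd_left h _
    · exact dvd_mul_of_dvd_right (dvd_mul_of_dvd_left h _) _
    · exact dvd_mul_of_dvd_right (dvd_mul_of_dvd_right h _) _
  simp only [List.forall_mem_cons, List.not_mem_nil, IsEmpty.forall_iff, implies_true, and_true] at key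
  obtain ⟨k1, k2, k3, k4, k5⟩ := key
  have hP : 23 * 29 * 31 * 37 * 43 ∣ d * d * d - d :=
    Nat.Coprime.mul_dvd_of_dvd_of_dvd (by norm_num) (Nat.Coprime.mul_dvd_of_dvd_of_dvd (by norm_num)
      (Nat.Coprime.mul_dvd_of_dvd_of_dvd (by norm_num) (Nat.Coprime.mul_dvd_of_dvd_of_dvd (by norm_num)
        k1 k2) k3) k4) k5
  norm_num at hP
  simp only [okDeg]
  rw [Nat.mod_eq_zero_of_dvd hP]
  rfl

/-- Two common constituents and five further ones, with signs, of five class functions of norm three. -/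
structure Seven (F : Fin 5 → G → ℂ) where
  /-- first common constituent -/
  p : G → ℂ
  /-- second common constituent -/
  q : G → ℂ
  /-- the further constituents -/
  r : Fin 5 → G → ℂ
  /-- sign of `p` -/
  σp : ℤ
  /-- sign of `q` -/
  σq : ℤ
  /-- signs of the further constituents -/
  ε : Fin 5 → ℤ
  hp : p ∈ irrFinset G
  hq : q ∈ irrFinset G
  hr : ∀ i, r i ∈ irrFinset G
  hpq : p ≠ q
  hrp : ∀ i, r i ≠ p
  hrq : ∀ i, r i ≠ q
  hrinj : Function.Injective r
  sp : σp * σp = 1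
  sq : σq * σq = 1
  sr : ∀ i, ε i * ε i = 1
  cp : ∀ i, classInner (F i) p = (σp : ℂ)
  cq : ∀ i, classInner (F i) q = (σq : ℂ)
  cr : ∀ i, classInner (F i) (r i) = (ε i : ℂ)
  cr0 : ∀ i j, i ≠ j → classInner (F i) (r j) = 0
  supp : ∀ i χ, χ ∈ irrFinset G → classInner (F i) χ ≠ 0 → χ = p ∨ χ = q ∨ χ = r i
  hexp : ∀ i g, F i g = (σp : ℂ) * p g + (σq : ℂ) * q g + (ε i : ℂ) * r i g

/-- Class functions with integral multiplicities, norm three and inner products two. -/
theorem exists_seven (F : Fin 5 → G → ℂ) (hFc : ∀ i, IsClassFunction G (F i))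
    (hint : ∀ i χ, IsIrrCharacter G χ → ∃ v : ℤ, classInner (F i) χ = v)
    (hFF : ∀ i j, classInner (F i) (F j) = if i = j then 3 else 2) : Nonempty (Seven F) := by
  classical
  have hint' : ∀ i χ, ∃ v : ℤ, χ ∈ irrFinset G → classInner (F i) χ = v := fun i χ => by
    by_cases h : χ ∈ irrFinset G
    · obtain ⟨v, hv⟩ := hint i χ (mem_irrFinset.1 h); exact ⟨v, fun _ => hv⟩
    · exact ⟨0, fun h' => absurd h' h⟩
  choose v hv using hint'
  have hVV : ∀ i j, ∑ χ ∈ irrFinset G, v i χ * v j χ = if i = j then 3 else 2 := by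
    intro i j
    have h := classInner_eq_sum_irr (hFc i) (F j)
    rw [hFF, Finset.sum_congr rfl (g := fun χ => (v i χ : ℂ) * (v j χ : ℂ)) fun χ hχ => by
      rw [hv i χ hχ, hv j χ hχ, map_intCast]] at h
    have e : ((∑ χ ∈ irrFinset G, v i χ * v j χ : ℤ) : ℂ) = ((if i = j then 3 else 2 : ℤ) : ℂ) := by
      rw [Int.cast_sum]
      simp only [Int.cast_mul]
      rw [← h]
      split_ifs <;> norm_num
    exact_mod_cast e
  have hpm : ∀ i, ∀ χ ∈ irrFinset G, v i χ = 1 ∨ v i χ = -1 ∨ v i χ = 0 := fun i χ hχ => by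
    refine sq_le_three_cases ?_
    have := Finset.single_le_sum (f := fun χ => v i χ * v i χ) (fun c _ => mul_self_nonneg _) hχ
    rw [hVV i i, if_pos rfl] at this
    exact this
  set S : Fin 5 → Finset (G → ℂ) := fun i => (irrFinset G).filter fun χ => v i χ ≠ 0 with hS
  have hS3 : ∀ i, (S i).card = 3 := by
    intro i
    have h := hVV i i
    rw [if_pos rfl, ← Finset.sum_filter_of_ne (p := fun χ => v i χ ≠ 0) fun χ _ h e => h (by rw [e, zero_mul])] at h
    rw [Finset.sum_congr rfl (g := fun _ => (1 : ℤ)) fun χ hχ => ?_] at h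
    · simp only [Finset.sum_const, nsmul_eq_mul, mul_one] at h
      exact_mod_cast h
    · obtain ⟨h1, h2⟩ := Finset.mem_filter.mp hχ
      rcases hpm i χ h1 with e | e | e
      · rw [e]; rfl
      · rw [e]; rfl
      · exact absurd e h2
  have hsub : ∀ i j, ∑ χ ∈ S i ∩ S j, v i χ * v j χ = ∑ χ ∈ irrFinset G, v i χ * v j χ := by
    intro i j
    refine Finset.sum_subset (fun χ hχ => (Finset.mem_filter.mp (Finset.mem_inter.mp hχ).1).1) fun χ hχ hn => ?_
    by_contra e
    rcases not_or.mp (fun h => e (mul_eq_zero.mpr h)) with ⟨a, b⟩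
    exact hn (Finset.mem_inter.mpr ⟨Finset.mem_filter.mpr ⟨hχ, a⟩, Finset.mem_filter.mpr ⟨hχ, b⟩⟩)
  have hterm : ∀ i j, ∀ χ ∈ S i ∩ S j, v i χ * v j χ = 1 ∨ v i χ * v j χ = -1 := by
    intro i j χ hχ
    obtain ⟨hi, hj⟩ := Finset.mem_inter.mp hχ
    obtain ⟨h1, h2⟩ := Finset.mem_filter.mp hi
    obtain ⟨-, h3⟩ := Finset.mem_filter.mp hj
    rcases hpm i χ h1 with e | e | e <;> rcases hpm j χ h1 with e' | e' | e' <;> simp_all
  have hinter : ∀ i j, i ≠ j → (S i ∩ S j).card = 2 ∧ ∀ χ ∈ S i ∩ S j, v i χ = v j χ := by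
    intro i j hij
    have h := hVV i j
    rw [if_neg hij, ← hsub i j] at h
    have hle : (S i ∩ S j).card ≤ 3 := (Finset.card_le_card Finset.inter_subset_left).trans (hS3 i).le
    have hub : ∑ χ ∈ S i ∩ S j, v i χ * v j χ ≤ ((S i ∩ S j).card : ℤ) :=
      (Finset.sum_le_sum (g := fun _ => (1 : ℤ)) fun χ hχ => by
        rcases hterm i j χ hχ with e | e <;> omega).trans_eq (by simp)
    have h2 : (S i ∩ S j).card = 2 := by
      by_contra hne
      have h3 : (S i ∩ S j).card = 3 := by omega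
      obtain ⟨a, b, c, hab, hac, hbc, habc⟩ := Finset.card_eq_three.mp h3
      have ta := hterm i j a (habc ▸ by simp)
      have tb := hterm i j b (habc ▸ by simp)
      have tc := hterm i j c (habc ▸ by simp)
      rw [habc, Finset.sum_insert (by simp [hab, hac]), Finset.sum_pair hbc] at h
      omega
    refine ⟨h2, fun χ hχ => ?_⟩
    obtain ⟨a, b, hab, hAB⟩ := Finset.card_eq_two.mp h2
    have ta := hterm i j a (hAB ▸ by simp)
    have tb := hterm i j b (hAB ▸ by simp)
    rw [hAB, Finset.sum_pair hab] at h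
    have hx : v i χ * v j χ = 1 := by
      rw [hAB] at hχ
      simp only [Finset.mem_insert, Finset.mem_singleton] at hχ
      rcases hχ with rfl | rfl <;> omega
    rcases Int.eq_one_or_neg_one_of_mul_eq_one' hx with ⟨e, e'⟩ | ⟨e, e'⟩ <;> rw [e, e']
  obtain ⟨p, q, hpq, r, hrinj, hr⟩ := exists_common_pair S hS3 fun i j h => (hinter i j h).1
  have hmemS : ∀ {i χ}, χ ∈ S i → χ ∈ irrFinset G ∧ v i χ ≠ 0 := fun h => Finset.mem_filter.mp h
  have hpS : ∀ i, p ∈ S i := fun i => by rw [(hr i).2.2]; simp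
  have hqS : ∀ i, q ∈ S i := fun i => by rw [(hr i).2.2]; simp
  have hrS : ∀ i, r i ∈ S i := fun i => by rw [(hr i).2.2]; simp
  have hp := (hmemS (hpS 0)).1
  have hq := (hmemS (hqS 0)).1
  have hri : ∀ i, r i ∈ irrFinset G := fun i => (hmemS (hrS i)).1
  have hvp : ∀ i, v i p = v 0 p := fun i => by
    by_cases e : i = 0
    · rw [e]
    · exact (hinter i 0 e).2 p (Finset.mem_inter.mpr ⟨hpS i, hpS 0⟩)
  have hvq : ∀ i, v i q = v 0 q := fun i => by
    by_cases e : i = 0
    · rw [e]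
    · exact (hinter i 0 e).2 q (Finset.mem_inter.mpr ⟨hqS i, hqS 0⟩)
  have hvr : ∀ i j, i ≠ j → v i (r j) = 0 := by
    intro i j hij
    by_contra e
    have hm : r j ∈ S i := Finset.mem_filter.mpr ⟨hri j, e⟩
    rw [(hr i).2.2] at hm
    simp only [Finset.mem_insert, Finset.mem_singleton] at hm
    rcases hm with h | h | h
    · exact (hr j).1 h
    · exact (hr j).2.1 h
    · exact hij (hrinj h).symm
  -- expansion of the class functions
  have hexp : ∀ i g, F i g = (v 0 p : ℂ) * p g + (v 0 q : ℂ) * q g + (v i (r i) : ℂ) * r i g := by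
    intro i g
    conv_lhs => rw [eq_sum_irr (hFc i)]
    rw [Finset.sum_apply]
    simp only [Pi.smul_apply, smul_eq_mul]
    rw [← Finset.sum_subset (s₁ := S i) (fun χ hχ => (hmemS hχ).1) fun χ hχ hn => by
      rw [hv i χ hχ, show v i χ = 0 by by_contra e; exact hn (Finset.mem_filter.mpr ⟨hχ, e⟩)]
      simp]
    rw [(hr i).2.2, Finset.sum_insert (by simp [hpq, Ne.symm (hr i).1]), Finset.sum_pair (Ne.symm (hr i).2.1),
      hv i p hp, hv i q hq, hv i (r i) (hri i), hvp i, hvq i]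
    ring
  have hsq1 : ∀ i, ∀ χ ∈ S i, v i χ * v i χ = 1 := fun i χ hχ => by
    rcases hpm i χ (hmemS hχ).1 with e | e | e
    · rw [e]; rfl
    · rw [e]; rfl
    · exact absurd e (hmemS hχ).2
  refine ⟨⟨p, q, r, v 0 p, v 0 q, fun i => v i (r i), hp, hq, hri, hpq, fun i => (hr i).1, fun i => (hr i).2.1,
    hrinj, hsq1 0 p (hpS 0), hsq1 0 q (hqS 0), fun i => hsq1 i _ (hrS i), fun i => by rw [hv i p hp, hvp i],
    fun i => by rw [hv i q hq, hvq i], fun i => hv i _ (hri i),
    fun i j hij => by rw [hv i _ (hri j), hvr i j hij, Int.cast_zero], ?_, hexp⟩⟩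
  intro i χ hχ h
  have hm : χ ∈ S i := Finset.mem_filter.mpr ⟨hχ, fun e => h (by rw [hv i χ hχ, e, Int.cast_zero])⟩
  rw [(hr i).2.2] at hm
  simpa using hm

namespace Seven

variable {F : Fin 5 → G → ℂ}

/-- No three distinct characters have the multiplicities of one nonzero vector. -/
theorem no_three (S : Seven F) {χ θ θ' : G → ℂ} (hχ : χ ∈ irrFinset G) (hθ : θ ∈ irrFinset G)
    (hθ' : θ' ∈ irrFinset G) (h1 : θ ≠ χ) (h2 : θ' ≠ χ) (h3 : θ' ≠ θ) {i : Fin 5}
    (hi : classInner (F i) χ ≠ 0) (e1 : ∀ j, classInner (F j) θ = classInner (F j) χ)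
    (e2 : ∀ j, classInner (F j) θ' = classInner (F j) χ) : False := by
  have h0 : ∀ j, classInner (F j) S.p ≠ 0 := fun j => by
    rw [S.cp, Ne, Int.cast_eq_zero]
    exact left_ne_zero_of_mul (S.sp.trans_ne one_ne_zero)
  have hne := fin5_succ_ne i
  have key : classInner (F (i + 1)) χ = classInner (F (i + 1)) S.p ∧
      classInner (F (i + 1)) χ = classInner (F (i + 1)) (S.r i) := by
    rcases S.supp i χ hχ hi with rfl | rfl | rfl <;>
      rcases S.supp i θ hθ (by rw [e1]; exact hi) with rfl | rfl | rfl <;>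
      rcases S.supp i θ' hθ' (by rw [e2]; exact hi) with rfl | rfl | rfl <;>
      first
        | exact absurd rfl h1
        | exact absurd rfl h2
        | exact absurd rfl h3
        | exact ⟨rfl, (e1 _).symm⟩
        | exact ⟨rfl, (e2 _).symm⟩
        | exact ⟨(e1 _).symm, rfl⟩
        | exact ⟨(e2 _).symm, rfl⟩
        | exact ⟨(e1 _).symm, (e2 _).symm⟩
        | exact ⟨(e2 _).symm, (e1 _).symm⟩
  refine h0 (i + 1) ?_
  rw [← key.1, key.2, S.cr0 _ _ hne]

end Seven

/-- The contradiction. -/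
theorem char_false (hG : Nat.card G = order) {w t : G}
    (hw : Nat.card ↥(Subgroup.centralizer ({w} : Set G)) = 2662) (ht : t * t = 1)
    (F : Fin 5 → G → ℂ) (hFc : ∀ i, IsClassFunction G (F i))
    (hint : ∀ i χ, IsIrrCharacter G χ → ∃ v : ℤ, classInner (F i) χ = v)
    (hFF : ∀ i j, classInner (F i) (F j) = if i = j then 3 else 2)
    (hF1 : ∀ i, F i 1 = 0) (hFw : ∀ i, F i w = 0) (hFt : ∀ i, F i t = 0)
    (hcong : ∀ χ, IsIrrCharacter G χ → ∃ B m : ℤ,
      χ w = (B : ℂ) ∧ χ 1 - χ w + 242 * ∑ i, classInner (F i) χ = ((1331 * m : ℤ) : ℂ))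
    (hsum : ∀ i, ∑ χ ∈ irrFinset G, classInner (F i) χ * (χ t * χ t) / χ 1 =
      11 * (1816657920 : ℂ) ^ 2 / (order : ℂ))
    (hreg : ∀ χ θ, IsIrrCharacter G χ → IsIrrCharacter G θ → (∀ g : G, g ^ 1331 = 1 → θ g = χ g) →
      ∀ i, classInner (F i) θ = classInner (F i) χ)
    (hbig : ∀ q ∈ ([23, 29, 31, 37, 43] : List ℕ), ∀ χ, IsIrrCharacter G χ → ∀ d : ℕ, χ 1 = (d : ℂ) →
      (∀ θ θ', IsIrrCharacter G θ → IsIrrCharacter G θ' → θ ≠ χ → θ' ≠ χ → θ' ≠ θ →
        (∀ g, ¬ q ∣ orderOf g → θ g = χ g) → (∀ g, ¬ q ∣ orderOf g → θ' g = χ g) → False) →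
      (q : ℤ) ∣ d ∨ (q : ℤ) ∣ (d : ℤ) - 1 ∨ (q : ℤ) ∣ (d : ℤ) + 1) :
    False := by
  classical
  obtain ⟨⟨p, q, r, σp, σq, ε, hp, hq, hri, hpq, hrp, hrq, hrinj, sp, sq, sr, cp, cq, cr, cr0, supp, hexp⟩⟩ :=
    exists_seven F hFc hint hFF
  -- values
  obtain ⟨dp, hdp0, hdp⟩ := IsIrrCharacter.exists_degree (mem_irrFinset.1 hp)
  obtain ⟨dq, hdq0, hdq⟩ := IsIrrCharacter.exists_degree (mem_irrFinset.1 hq)
  choose dr hdr0 hdr using fun i => IsIrrCharacter.exists_degree (mem_irrFinset.1 (hri i))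
  obtain ⟨Bp, mp, hBp, hmp⟩ := hcong p (mem_irrFinset.1 hp)
  obtain ⟨Bq, mq, hBq, hmq⟩ := hcong q (mem_irrFinset.1 hq)
  have hG2 : 2 ∣ Nat.card G := by rw [hG]; decide +kernel
  obtain ⟨bp, hbp⟩ := ThreeCC.involution_int ht (IsIrrCharacter.isCharacter (mem_irrFinset.1 hp)) hG2
  obtain ⟨bq, hbq⟩ := ThreeCC.involution_int ht (IsIrrCharacter.isCharacter (mem_irrFinset.1 hq)) hG2
  set Dp : ℤ := σp * dp
  set Dm : ℤ := σq * dq
  have hD : ∀ i, (Dp + Dm : ℤ) = -(ε i * dr i) := by
    intro i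
    have h := hF1 i
    rw [hexp, hdp, hdq, hdr] at h
    have h' : σp * dp + σq * dq + ε i * dr i = 0 := by exact_mod_cast h
    simp only [Dp, Dm]; linarith
  have hD0 : Dp + Dm ≠ 0 := by
    rw [hD 0, neg_ne_zero]
    exact mul_ne_zero (left_ne_zero_of_mul ((sr 0).trans_ne one_ne_zero)) (by exact_mod_cast (hdr0 0).ne')
  have hrB : ∀ i, r i w = ((-(ε i) * (σp * Bp + σq * Bq) : ℤ) : ℂ) := by
    intro i
    have h := hFw i
    rw [hexp, hBp, hBq] at h
    have h1 : ((ε i * ε i : ℤ) : ℂ) = 1 := by rw [sr i]; norm_num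
    push_cast at h1 ⊢
    linear_combination (ε i : ℂ) * h - r i w * h1
  have hrb : ∀ i, r i t = ((-(ε i) * (σp * bp + σq * bq) : ℤ) : ℂ) := by
    intro i
    have h := hFt i
    rw [hexp, hbp, hbq] at h
    have h1 : ((ε i * ε i : ℤ) : ℂ) = 1 := by rw [sr i]; norm_num
    push_cast at h1 ⊢
    linear_combination (ε i : ℂ) * h - r i t * h1
  -- congruences
  have hcp : (1331 : ℤ) ∣ Dp - σp * Bp - 121 := by
    rw [hBp, hdp, Finset.sum_congr rfl (g := fun _ => (σp : ℂ)) fun i _ => cp i] at hmp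
    have h : (dp : ℤ) - Bp + 242 * (5 * σp) = 1331 * mp := by
      have h' : ((dp : ℤ) : ℂ) - (Bp : ℂ) + 242 * (5 * (σp : ℂ)) = ((1331 * mp : ℤ) : ℂ) := by
        rw [← hmp]; simp
      exact_mod_cast h'
    exact ⟨σp * mp - 1, by simp only [Dp]; linear_combination σp * h - 1210 * sp⟩
  have hcq : (1331 : ℤ) ∣ Dm - σq * Bq - 121 := by
    rw [hBq, hdq, Finset.sum_congr rfl (g := fun _ => (σq : ℂ)) fun i _ => cq i] at hmq
    have h : (dq : ℤ) - Bq + 242 * (5 * σq) = 1331 * mq := by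
      have h' : ((dq : ℤ) : ℂ) - (Bq : ℂ) + 242 * (5 * (σq : ℂ)) = ((1331 * mq : ℤ) : ℂ) := by
        rw [← hmq]; simp
      exact_mod_cast h'
    exact ⟨σq * mq - 1, by simp only [Dm]; linear_combination σq * h - 1210 * sq⟩
  -- the seven characters
  have hp7 : p ∉ insert q (Finset.univ.image r) := by
    simp only [Finset.mem_insert, Finset.mem_image, Finset.mem_univ, true_and, not_or, not_exists]
    exact ⟨hpq, fun i => hrp i⟩
  have hq7 : q ∉ Finset.univ.image r := by
    simp only [Finset.mem_image, Finset.mem_univ, true_and, not_exists]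
    exact fun i => hrq i
  have hseven : insert p (insert q (Finset.univ.image r)) ⊆ irrFinset G := by
    intro χ hχ
    simp only [Finset.mem_insert, Finset.mem_image, Finset.mem_univ, true_and] at hχ
    rcases hχ with rfl | rfl | ⟨i, rfl⟩
    · exact hp
    · exact hq
    · exact hri i
  have hexp7 : ∀ f : (G → ℂ) → ℝ, ∑ χ ∈ insert p (insert q (Finset.univ.image r)), f χ =
      f p + f q + ∑ i, f (r i) := fun f => by
    rw [Finset.sum_insert hp7, Finset.sum_insert hq7, Finset.sum_image hrinj.injOn, add_assoc]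
  have hcol : (σp * Bp) * (σp * Bp) + (σq * Bq) * (σq * Bq) +
      5 * ((σp * Bp + σq * Bq) * (σp * Bp + σq * Bq)) ≤ 2662 := by
    have h := sum_irr_mul_conj w w
    rw [if_pos (IsConj.refl w), hw] at h
    have h' : ∑ χ ∈ irrFinset G, Complex.normSq (χ w) = 2662 := by
      have : ((∑ χ ∈ irrFinset G, Complex.normSq (χ w) : ℝ) : ℂ) = ((2662 : ℝ) : ℂ) := by
        rw [Complex.ofReal_sum]
        simp only [← Complex.mul_conj]
        rw [h]; norm_num
      exact_mod_cast this
    have h2 := Finset.sum_le_sum_of_subset_of_nonneg (f := fun χ => Complex.normSq (χ w)) hseven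
      fun χ _ _ => Complex.normSq_nonneg _
    rw [h', hexp7 fun χ => Complex.normSq (χ w), hBp, hBq] at h2
    have e : ∀ i, Complex.normSq (r i w) =
        (((σp * Bp + σq * Bq) * (σp * Bp + σq * Bq) : ℤ) : ℝ) := fun i => by
      rw [hrB i, Complex.normSq_intCast, ← Int.cast_mul]
      congr 1
      linear_combination (σp * Bp + σq * Bq) * (σp * Bp + σq * Bq) * sr i
    simp only [e, Complex.normSq_intCast, Finset.sum_const, Finset.card_univ, Fintype.card_fin,
      nsmul_eq_mul, Nat.cast_ofNat] at h2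
    have h3 : Bp * Bp + Bq * Bq + 5 * ((σp * Bp + σq * Bq) * (σp * Bp + σq * Bq)) ≤ 2662 := by
      rw [← Int.cast_le (R := ℝ)]; push_cast at h2 ⊢; linarith
    calc _ = Bp * Bp + Bq * Bq + 5 * ((σp * Bp + σq * Bq) * (σp * Bp + σq * Bq)) := by
          linear_combination Bp * Bp * sp + Bq * Bq * sq
      _ ≤ 2662 := h3
  have hdeg : Dp * Dp + Dm * Dm + 5 * ((Dp + Dm) * (Dp + Dm)) ≤ (order : ℤ) := by
    have h := sum_degree_sq (G := G)
    rw [hG] at h
    have h' : ∑ χ ∈ irrFinset G, (χ 1).re * (χ 1).re = (order : ℝ) := by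
      have := congrArg Complex.re h
      rw [Complex.re_sum, Complex.natCast_re] at this
      rw [← this]
      refine Finset.sum_congr rfl fun χ hχ => ?_
      obtain ⟨n, -, hn⟩ := IsIrrCharacter.exists_degree (mem_irrFinset.1 hχ)
      rw [hn]; simp [pow_two]
    have h2 := Finset.sum_le_sum_of_subset_of_nonneg (f := fun χ : G → ℂ => (χ 1).re * (χ 1).re) hseven
      fun χ _ _ => mul_self_nonneg _
    rw [h', hexp7 fun χ => (χ 1).re * (χ 1).re, hdp, hdq] at h2
    have e : ∀ i, (r i 1).re * (r i 1).re = (((Dp + Dm) * (Dp + Dm) : ℤ) : ℝ) := fun i => by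
      have hi : (Dp + Dm) * (Dp + Dm) = (dr i : ℤ) * dr i := by
        rw [hD i]; linear_combination (dr i : ℤ) * dr i * sr i
      rw [hdr i, Complex.natCast_re, hi]; push_cast; ring
    simp only [e, Complex.natCast_re, Finset.sum_const, Finset.card_univ, Fintype.card_fin,
      nsmul_eq_mul, Nat.cast_ofNat] at h2
    have h3 : (dp : ℤ) * dp + dq * dq + 5 * ((Dp + Dm) * (Dp + Dm)) ≤ (order : ℤ) := by
      rw [← Int.cast_le (R := ℝ)]; push_cast at h2 ⊢; linarith
    calc Dp * Dp + Dm * Dm + 5 * ((Dp + Dm) * (Dp + Dm))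
        = (dp : ℤ) * dp + dq * dq + 5 * ((Dp + Dm) * (Dp + Dm)) := by
          simp only [Dp, Dm]; linear_combination (dp : ℤ) * dp * sp + (dq : ℤ) * dq * sq
      _ ≤ _ := h3
  -- the square
  have hk : ((23 * 29 * 31 * 37 * 43 : ℤ)) * ((σp * bp * Dm - σq * bq * Dp) * (σp * bp * Dm - σq * bq * Dp)) =
      2 ^ 17 * 105 * Dp * Dm * (Dp + Dm) := by
    have h := hsum 0
    have hsub : ({p, q, r 0} : Finset (G → ℂ)) ⊆ irrFinset G := by simp [Finset.insert_subset_iff, hp, hq, hri 0]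
    rw [← Finset.sum_subset hsub (fun χ hχ hn => by
        rw [show classInner (F 0) χ = 0 by
          by_contra e; exact hn (by simpa using supp 0 χ hχ e)]
        simp),
      Finset.sum_insert (by simp [hpq, Ne.symm (hrp 0)]), Finset.sum_pair (Ne.symm (hrq 0)),
      cp, cq, cr, hdp, hdq, hdr, hbp, hbq, hrb 0] at h
    generalize hee : ε 0 = e₀ at h
    have hε : (e₀ : ℂ) * e₀ = 1 := by rw [← hee]; exact_mod_cast sr 0
    have hσp' : (σp : ℂ) * σp = 1 := by exact_mod_cast sp
    have hσq' : (σq : ℂ) * σq = 1 := by exact_mod_cast sq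
    have hd0 : (dr 0 : ℂ) = -(e₀ : ℂ) * (((σp * dp + σq * dq : ℤ)) : ℂ) := by
      have hi : (dr 0 : ℤ) = -e₀ * (Dp + Dm) := by
        rw [hD 0, ← hee]; linear_combination (-(dr 0 : ℤ)) * sr 0
      exact_mod_cast hi
    have hne : (((σp * dp + σq * dq : ℤ)) : ℂ) ≠ 0 := by
      rw [Ne, Int.cast_eq_zero]; exact hD0
    have hne_p : (dp : ℂ) ≠ 0 := by exact_mod_cast hdp0.ne'
    have hne_q : (dq : ℂ) ≠ 0 := by exact_mod_cast hdq0.ne'
    have hε0 : (e₀ : ℂ) ≠ 0 := fun e => by rw [e, zero_mul] at hε; exact zero_ne_one hε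
    rw [hd0] at h
    have key : ((σp * bp * Dm - σq * bq * Dp : ℤ) : ℂ) * ((σp * bp * Dm - σq * bq * Dp : ℤ) : ℂ) /
        ((Dp * Dm * (Dp + Dm) : ℤ) : ℂ) = 11 * (1816657920 : ℂ) ^ 2 / (order : ℂ) := by
      rw [← h]
      simp only [Dp, Dm]
      push_cast at hne ⊢
      exact (three_terms hσp' hσq' hε hne_p hne_q hne).symm
    have hG' : (order : ℂ) = 2 ^ 21 * 3 ^ 3 * 5 * 7 * 11 ^ 3 * (23 * 29 * 31 * 37 * 43) := by
      simp only [order]; push_cast; ring
    have hne3 : ((Dp * Dm * (Dp + Dm) : ℤ) : ℂ) ≠ 0 := by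
      rw [Ne, Int.cast_eq_zero]
      refine mul_ne_zero (mul_ne_zero ?_ ?_) hD0
      · exact mul_ne_zero (left_ne_zero_of_mul (sp.trans_ne one_ne_zero)) (by exact_mod_cast hdp0.ne')
      · exact mul_ne_zero (left_ne_zero_of_mul (sq.trans_ne one_ne_zero)) (by exact_mod_cast hdq0.ne')
    rw [hG', div_eq_div_iff hne3 (by norm_num)] at key
    have key' := mul_left_cancel₀ (a := (11 * 1816657920 ^ 2 / (2 ^ 17 * 105) : ℂ)) (by norm_num)
      (show (11 * 1816657920 ^ 2 / (2 ^ 17 * 105) : ℂ) *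
          (((23 * 29 * 31 * 37 * 43 : ℤ) * ((σp * bp * Dm - σq * bq * Dp) *
            (σp * bp * Dm - σq * bq * Dp)) : ℤ) : ℂ) =
          (11 * 1816657920 ^ 2 / (2 ^ 17 * 105) : ℂ) * ((2 ^ 17 * 105 * Dp * Dm * (Dp + Dm) : ℤ) : ℂ) by
        push_cast at key ⊢
        linear_combination key)
    exact_mod_cast key'
  -- degrees
  have hok : ∀ χ ∈ irrFinset G, (∃ i, classInner (F i) χ ≠ 0) → ∀ d : ℕ, χ 1 = (d : ℂ) → okDeg d = true := by
    rintro χ hχ ⟨i, hi⟩ d hd
    refine okDeg_of fun l hl => hbig l hl χ (mem_irrFinset.1 hχ) d hd ?_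
    intro θ θ' hθ hθ' h1 h2 h3 e1 e2
    have hl2 : ∀ g : G, g ^ 1331 = 1 → ¬ l ∣ orderOf g := fun g hg hdvd => by
      have := hdvd.trans (orderOf_dvd_of_pow_eq_one hg)
      simp only [List.mem_cons, List.not_mem_nil, or_false] at hl
      rcases hl with rfl | rfl | rfl | rfl | rfl <;> norm_num at this
    exact Seven.no_three ⟨p, q, r, σp, σq, ε, hp, hq, hri, hpq, hrp, hrq, hrinj, sp, sq, sr, cp, cq, cr, cr0,
      supp, hexp⟩ hχ (mem_irrFinset.2 hθ) (mem_irrFinset.2 hθ') h1 h2 h3 hi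
      (hreg χ θ (mem_irrFinset.1 hχ) hθ fun g hg => e1 g (hl2 g hg))
      (hreg χ θ' (mem_irrFinset.1 hχ) hθ' fun g hg => e2 g (hl2 g hg))
  have nz : ∀ (a : ℤ) (χ : G → ℂ) (i : Fin 5), a * a = 1 → classInner (F i) χ = (a : ℂ) →
      ∃ j, classInner (F j) χ ≠ 0 := fun a χ i ha hc =>
    ⟨i, by rw [hc, Ne, Int.cast_eq_zero]; exact left_ne_zero_of_mul (ha.trans_ne one_ne_zero)⟩
  have habs : ∀ (s : ℤ) (d : ℕ), s * s = 1 → (s * (d : ℤ)).natAbs = d := fun s d hs => by
    rcases Int.eq_one_or_neg_one_of_mul_eq_one hs with rfl | rfl <;> simp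
  refine no_triple hD0 ?_ ?_ ?_ ?_ ?_ ?_ hcp hcq hcol hdeg hk
  · rw [habs _ _ sp, ← hG]; exact IsIrrCharacter.degree_dvd_card (mem_irrFinset.1 hp) hdp
  · rw [habs _ _ sq, ← hG]; exact IsIrrCharacter.degree_dvd_card (mem_irrFinset.1 hq) hdq
  · rw [hD 0, Int.natAbs_neg, habs _ _ (sr 0), ← hG]
    exact IsIrrCharacter.degree_dvd_card (mem_irrFinset.1 (hri 0)) (hdr 0)
  · rw [habs _ _ sp]; exact hok p hp (nz _ _ 0 sp (cp 0)) _ hdp
  · rw [habs _ _ sq]; exact hok q hq (nz _ _ 0 sq (cq 0)) _ hdq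
  · rw [hD 0, Int.natAbs_neg, habs _ _ (sr 0)]; exact hok _ (hri 0) (nz _ _ 0 (sr 0) (cr 0)) _ (hdr 0)

end CfsgLib.J4SylEleven
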