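import Mathlib.Tactic
import Mathlib.Data.Nat.Prime.Basic
import Mathlib.RingTheory.Coprime.Lemmas

/-!
Janko-four type, Sylow 11: the arithmetic excluding an abelian Sylow subgroup.  No three signed degrees
`Dp`, `Dm`, `Dp + Dm` satisfy the congruence, size and square conditions.
-/

set_option autoImplicit false

namespace CfsgLib.J4SylEleven

/-- The group order. -/
def order : ℕ := 2 ^ 21 * 3 ^ 3 * 5 * 7 * 11 ^ 3 * 23 * 29 * 31 * 37 * 43

/-- Degrees congruent to `0, 1` or `-1` modulo each of the five large primes: the product of these primes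
divides `d ^ 3 - d`. -/
def okDeg (d : ℕ) : Bool :=
  Nat.beq ((d * d * d - d) % 32897107) 0

/-- The possible degrees. -/
def degList : List ℕ :=
  [1, 1333, 299367, 887777, 887778, 889111,
   1187145, 1776888, 2076255, 3401816, 3403149, 4290927,
   4292260, 4590294, 6367182, 10658109, 28606180, 32007996,
   32307363, 32897107, 35411145, 36300256, 59427032, 61203920,
   62391065, 65794214, 94400394, 95288172, 97504176, 97802210,
   98691321, 99580432, 102094470, 102982248, 103281615, 105058503,
   131588428, 159007464, 160194608, 162409280, 164485535, 191015460,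
   192792348, 193091715, 197382642, 201972936, 203749824, 205076718,
   230279749, 256809674, 259775040, 263176856, 264065967, 296073963,
   299477112, 300364890, 326457032, 328971070, 361868177, 366159104,
   393877506, 394765284, 401132466, 426773280, 460559498, 463524864,
   466926680, 490053456, 493456605, 501450048, 526353712, 560139930,
   587557632, 592147926, 625934144, 629335960, 657942140, 668899616,
   686548320, 690839247, 720334538, 723736354, 786127419, 789530568,
   821538564, 883631595, 885257856, 888221889, 921118996, 925709290,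
   953716736, 980546028, 986913210, 991204137, 1016407168, 1052707424,
   1081313604, 1085604531, 1089007680, 1096262640, 1151398745, 1182518964,
   1183406741, 1184295852, 1315884280, 1381678494, 1447472708, 1480369815,
   1509863773, 1579061136, 1746949820, 1776443778, 1782810960, 1809340885,
   1842237992, 1901665024, 1903741279, 1973826420, 2072517741, 2076808668,
   2105414848, 2171209062, 2265609456, 2267824128, 2302797490, 2368591704,
   2470686174, 2471573952, 2533077239, 2570564640, 2631768560, 2692972480,
   2727495848, 2731348992, 2763356988, 2828263424, 2855381760, 2858645160,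
   2894945416, 2960739630, 3053952880, 3054840657, 3087148020, 3151755090,
   3158122272, 3194422528, 3256813593, 3361872096, 3454196235, 3520879560,
   3524281376, 3552887556, 3584895552, 3618681770, 3684475984, 3781980160,
   3844670592, 3947652840, 3980549947, 4145035482, 4210829696, 4237359621,
   4248017730, 4342418124, 4441109445, 4544391060, 4605594980, 4737183408,
   4861077760, 4958581936, 5066154478, 5163956688, 5227236864, 5263537120,
   5428022655, 5490413720, 5526713976, 5627481552, 5789890832, 5921479260,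
   6057358615, 6112494720, 6217553223, 6316244544, 6513627186, 6519994368,
   6608027580, 6777693153, 6908392470, 7105775112, 7208757360, 7237363540,
   7368951968, 7599231717, 7704290220, 7834101760, 7895305680, 7961099894,
   8055500288, 8217909568, 8290070964, 8385359136, 8421659392, 8482863312,
   8684836248, 8787818496, 8882218890, 8886809184, 8984313360, 9211189960,
   9251343360]

/-- Membership in `degList`, with the primitive comparison. -/
def inDeg (d : ℕ) : Bool := degList.any (Nat.beq d)

theorem inDeg_iff {d : ℕ} : inDeg d = true ↔ d ∈ degList := by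
  simp only [inDeg, List.any_eq_true]
  exact ⟨fun ⟨x, hx, e⟩ => (Nat.eq_of_beq_eq_true e) ▸ hx, fun h => ⟨d, h, Nat.beq_refl d⟩⟩

/-- The possible signed degrees of the two common constituents. -/
def candList : List ℤ :=
  [-6608027580, -3844670592, -3520879560, -3194422528, -2731348992, -2265609456,
   -1151398745, -1081313604, -686548320, -466926680, -361868177, -256809674,
   -36300256, -35411145, -2076255, -1187145, -299367, 32007996,
   32897107, 102094470, 102982248, 426773280, 463524864, 821538564,
   925709290, 1901665024, 2076808668, 2470686174, 2471573952, 2692972480,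
   3584895552, 3980549947, 5163956688, 5490413720, 7208757360, 8217909568,
   8787818496]

/-- Floors of the square roots that occur. -/
def rootList : List ℕ :=
  [172592658315, 949754219301, 1279981411479, 5642916629514, 9825604521262, 27085999821669,
   34657765563383, 38702345929453, 61432646354915]

/-- A prime power dividing `p ^ n` is in the obvious list. -/
theorem exists_mul_of_dvd_mul {d a p n : ℕ} (hp : p.Prime) (h : d ∣ a * p ^ n) :
    ∃ i < n + 1, ∃ d' : ℕ, d' ∣ a ∧ d = d' * p ^ i := by
  obtain ⟨d₁, d₂, h₁, h₂, rfl⟩ := exists_dvd_and_dvd_of_dvd_mul h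
  obtain ⟨i, hi, rfl⟩ := (Nat.dvd_prime_pow hp).mp h₂
  exact ⟨i, Nat.lt_succ_of_le hi, d₁, h₁, rfl⟩

def degCheck (d : ℕ) : Bool := !(okDeg d) || !(Nat.ble (d * d) order) || inDeg d

/-- Check all products of one entry from each list. -/
def checkAll : List (List ℕ) → ℕ → Bool
  | [], d => degCheck d
  | l :: ls, d => l.all fun x => checkAll ls (d * x)

/-- The prime powers dividing the order. -/
def powLists : List (List ℕ) :=
  [(List.range 22).map (2 ^ ·), (List.range 4).map (3 ^ ·), (List.range 2).map (5 ^ ·), (List.range 2).map (7 ^ ·),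
   (List.range 4).map (11 ^ ·), (List.range 2).map (23 ^ ·), (List.range 2).map (29 ^ ·),
   (List.range 2).map (31 ^ ·), (List.range 2).map (37 ^ ·), (List.range 2).map (43 ^ ·)]

/-- All divisors of the order, checked one by one. -/
theorem deg_table : checkAll powLists 1 = true := by
  decide +kernel

theorem mem_degList {d : ℕ} (hd : d ∣ order) (hok : okDeg d = true) (hsq : d * d ≤ order) : d ∈ degList := by
  have hd' : d ∣ 1 * 2 ^ 21 * 3 ^ 3 * 5 ^ 1 * 7 ^ 1 * 11 ^ 3 * 23 ^ 1 * 29 ^ 1 * 31 ^ 1 * 37 ^ 1 * 43 ^ 1 := by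
    refine hd.trans (Eq.dvd ?_); norm_num [order]
  obtain ⟨k, hk, d1, e1, rfl⟩ := exists_mul_of_dvd_mul (by norm_num) hd'
  obtain ⟨j, hj, d2, e2, rfl⟩ := exists_mul_of_dvd_mul (by norm_num) e1
  obtain ⟨i, hi, d3, e3, rfl⟩ := exists_mul_of_dvd_mul (by norm_num) e2
  obtain ⟨h', hh, d4, e4, rfl⟩ := exists_mul_of_dvd_mul (by norm_num) e3
  obtain ⟨g, hg, d5, e5, rfl⟩ := exists_mul_of_dvd_mul (by norm_num) e4
  obtain ⟨f, hf, d6, e6, rfl⟩ := exists_mul_of_dvd_mul (by norm_num) e5
  obtain ⟨e, he, d7, e7, rfl⟩ := exists_mul_of_dvd_mul (by norm_num) e6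
  obtain ⟨c, hc, d8, e8, rfl⟩ := exists_mul_of_dvd_mul (by norm_num) e7
  obtain ⟨b, hb, d9, e9, rfl⟩ := exists_mul_of_dvd_mul (by norm_num) e8
  obtain ⟨a, ha, d0, e0, rfl⟩ := exists_mul_of_dvd_mul (by norm_num) e9
  rw [Nat.dvd_one] at e0
  subst e0
  rw [one_mul] at hok hsq ⊢
  have h := deg_table
  simp only [powLists, checkAll, List.all_eq_true, List.forall_mem_map, List.mem_range, one_mul] at h
  have := h a ha b hb c hc e he f hf g hg h' hh i hi j hj k hk
  rw [degCheck, hok, Nat.ble_eq_true_of_le hsq] at this
  exact inDeg_iff.mp (by simpa using this)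

/-- The residue attached to a signed degree. -/
def resid (a : ℤ) : ℤ := (a - 121 + 665) % 1331 - 665

def candCheck (a : ℤ) : Bool := Int.natAbs (resid a) > 38 || candList.contains a

theorem cand_table : (degList.all fun d => candCheck (d : ℤ) && candCheck (-(d : ℤ))) = true := by
  decide +kernel

theorem mem_candList {a : ℤ} (ha : a.natAbs ∈ degList) (hr : (resid a).natAbs ≤ 38) : a ∈ candList := by
  have h := List.all_eq_true.mp cand_table _ ha
  rw [Bool.and_eq_true] at h
  have h' : candCheck a = true := by
    rcases Int.natAbs_eq a with e | e <;> rw [e]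
    · exact h.1
    · exact h.2
  simpa [candCheck, not_lt.mpr hr] using h'

/-- A number lying strictly between two consecutive squares of the list, or negative. -/
def noSquare (y : ℤ) : Bool :=
  y < 0 || rootList.any fun k => (((k : ℤ) * k) < y) && (y < ((k : ℤ) + 1) * ((k : ℤ) + 1))

def pairCheck (a b : ℤ) : Bool :=
  a + b == 0 || !(inDeg (a + b).natAbs) ||
    (order : ℤ) < a * a + b * b + 5 * ((a + b) * (a + b)) ||
    2662 < resid a * resid a + resid b * resid b + 5 * ((resid a + resid b) * (resid a + resid b)) ||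
    noSquare (2 ^ 17 * 105 * a * b * (a + b) / (23 * 29 * 31 * 37 * 43))

theorem pair_table : (candList.all fun a => candList.all fun b => pairCheck a b) = true := by
  decide +kernel

theorem ne_of_noSquare {y k : ℤ} (hy : noSquare y = true) : y ≠ k * k := by
  intro e
  subst e
  simp only [noSquare, Bool.or_eq_true, List.any_eq_true, Bool.and_eq_true, decide_eq_true_eq] at hy
  rcases hy with h | ⟨r, -, h₁, h₂⟩
  · nlinarith [mul_self_nonneg k]
  · rcases le_or_gt k.natAbs r with h | h
    · have : (k.natAbs : ℤ) ≤ r := by exact_mod_cast h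
      rw [← Int.natAbs_mul_self' k] at h₁
      nlinarith [Int.natAbs_mul_self' k, Int.natCast_nonneg k.natAbs]
    · have : (r : ℤ) + 1 ≤ k.natAbs := by exact_mod_cast h
      nlinarith [Int.natAbs_mul_self' k, Int.natCast_nonneg r]

theorem resid_eq {a B : ℤ} (h : (1331 : ℤ) ∣ a - B - 121) (hB : B * B ≤ 2662) : resid a = B := by
  have h₁ : B ≤ 52 := by nlinarith
  have h₂ : -52 ≤ B := by nlinarith
  rw [resid]
  omega

/-- The numerical contradiction. -/
theorem no_triple {Dp Dm Bp Bm k : ℤ}
    (hp0 : Dp + Dm ≠ 0)
    (hdvp : Dp.natAbs ∣ order) (hdvm : Dm.natAbs ∣ order) (hdv : (Dp + Dm).natAbs ∣ order)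
    (hokp : okDeg Dp.natAbs = true) (hokm : okDeg Dm.natAbs = true) (hok : okDeg (Dp + Dm).natAbs = true)
    (hcp : (1331 : ℤ) ∣ Dp - Bp - 121) (hcm : (1331 : ℤ) ∣ Dm - Bm - 121)
    (hcol : Bp * Bp + Bm * Bm + 5 * ((Bp + Bm) * (Bp + Bm)) ≤ 2662)
    (hsum : Dp * Dp + Dm * Dm + 5 * ((Dp + Dm) * (Dp + Dm)) ≤ (order : ℤ))
    (hsq : (23 * 29 * 31 * 37 * 43 : ℤ) * (k * k) = 2 ^ 17 * 105 * Dp * Dm * (Dp + Dm)) : False := by
  have hb : ∀ x : ℤ, x * x ≤ (order : ℤ) → x.natAbs * x.natAbs ≤ order := by
    intro x hx
    rw [← Int.natAbs_mul_self' x] at hx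
    exact_mod_cast hx
  have q₀ := mul_self_nonneg Dp
  have q₁ := mul_self_nonneg Dm
  have q₂ := mul_self_nonneg (Dp + Dm)
  have mp := mem_degList hdvp hokp (hb _ (by nlinarith))
  have mm := mem_degList hdvm hokm (hb _ (by nlinarith))
  have ms := mem_degList hdv hok (hb _ (by nlinarith))
  have rp : resid Dp = Bp := resid_eq hcp (by nlinarith [mul_self_nonneg Bm, mul_self_nonneg (Bp + Bm)])
  have rm : resid Dm = Bm := resid_eq hcm (by nlinarith [mul_self_nonneg Bp, mul_self_nonneg (Bp + Bm)])
  have hp38 : Bp.natAbs ≤ 38 := by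
    by_contra hlt
    have : 39 * 39 ≤ Bp * Bp := by
      rw [← Int.natAbs_mul_self' Bp]; exact_mod_cast Nat.mul_le_mul (not_le.mp hlt) (not_le.mp hlt)
    nlinarith [mul_self_nonneg (6 * Bm + 5 * Bp)]
  have hm38 : Bm.natAbs ≤ 38 := by
    by_contra hlt
    have : 39 * 39 ≤ Bm * Bm := by
      rw [← Int.natAbs_mul_self' Bm]; exact_mod_cast Nat.mul_le_mul (not_le.mp hlt) (not_le.mp hlt)
    nlinarith [mul_self_nonneg (6 * Bp + 5 * Bm)]
  have cp := mem_candList mp (rp.symm ▸ hp38)
  have cm := mem_candList mm (rm.symm ▸ hm38)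
  have h := List.all_eq_true.mp (List.all_eq_true.mp pair_table _ cp) _ cm
  simp only [pairCheck, Bool.or_eq_true, beq_iff_eq, Bool.not_eq_true', decide_eq_true_eq, rp, rm] at h
  rcases h with (((h | h) | h) | h) | h
  · exact hp0 h
  · rw [inDeg_iff.mpr ms] at h; exact Bool.noConfusion h
  · omega
  · omega
  · refine ne_of_noSquare (k := k) h ?_
    rw [← hsq, Int.mul_ediv_cancel_left _ (by norm_num)]

end CfsgLib.J4SylEleven
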