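import Cfsg.Agent.J4SylEleven.HSide
import Cfsg.Agent.J4SylEleven.Arith
import Cfsg.Agent.J4Large.Main
import Cfsg.Agent.J4Local.FiveFix

/-!
The centraliser and normaliser of an element of order eleven of `C_H(P)` in a group of Janko-four type.
-/

set_option autoImplicit false
set_option linter.style.haveILetI false
set_option linter.unusedSectionVars false

namespace CfsgLib.J4SylEleven

open Cfsg CfsgLib.J4Local Subgroup
open CfsgLib.J4Seven (card_H mem_norm_zpowers orderOf_conj7)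
open scoped commutatorElement

variable {G : Type*} [Group G] [Finite G] {z : G} {P : Subgroup G}

theorem exists_gen_P (hJ : IsOfJankoFourTypeWith z P) :
    ∃ p ∈ P, orderOf p = 3 ∧ zpowers p = P := by
  haveI : Fact (Nat.Prime 3) := ⟨Nat.prime_three⟩
  obtain ⟨p, hp⟩ := exists_prime_orderOf_dvd_card' (G := P) 3 (by rw [card_P hJ])
  refine ⟨p, p.2, by rw [Subgroup.orderOf_coe, hp], eq_of_le_of_card_ge (zpowers_le.2 p.2) ?_⟩
  rw [card_P hJ, Nat.card_zpowers, Subgroup.orderOf_coe, hp]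

variable (hI : CfsgLib.J4Large.Inputs z P)

include hI

theorem order_eq : Nat.card G = order := by rw [hI.order]; norm_num [CfsgLib.J4Large.orderJ4, order]

/-- No element of order 5, 7 or a large prime centralises an element of order 11. -/
theorem not_dvd_cent {x : G} (hx : orderOf x = 11) {r : ℕ} (hr : r ∈ [5, 7, 23, 29, 31, 37, 43]) :
    ¬ r ∣ Nat.card (centralizer ({x} : Set G)) := by
  intro h
  have hp : r.Prime := by
    simp only [List.mem_cons, List.not_mem_nil, or_false] at hr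
    rcases hr with rfl | rfl | rfl | rfl | rfl | rfl | rfl <;> norm_num
  haveI := Fact.mk hp
  obtain ⟨g, hg⟩ := exists_prime_orderOf_dvd_card' (G := centralizer ({x} : Set G)) r h
  rw [← Subgroup.orderOf_coe] at hg
  have hxg : x ∈ centralizer ({(g : G)} : Set G) :=
    mem_centralizer_singleton_iff.2 (mem_centralizer_singleton_iff.1 g.2).symm
  have hd := Subgroup.orderOf_dvd_natCard _ hxg
  rw [hx] at hd
  have hmain := CfsgLib.J4Large.main hI
  have big : ∀ e : ℕ, (∀ U : Sylow r G, centralizer ((U : Subgroup G) : Set G) = (U : Subgroup G) ∧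
      Nat.card ↥(normalizer ((U : Subgroup G) : Set G)) = r * e) → r ∈ CfsgLib.J4Large.bigs → False := by
    intro e hU hb
    obtain ⟨U, hUe⟩ := CfsgLib.J4Large.exists_sylow hI hb hg
    rw [← CfsgLib.J4Large.cent_zpowers, ← hUe, (hU U).1, CfsgLib.J4Large.sylow_card hI hb U] at hd
    have := (Nat.prime_dvd_prime_iff_eq (by norm_num) hp).1 hd
    simp only [CfsgLib.J4Large.bigs, List.mem_cons, List.not_mem_nil, or_false] at hb
    omega
  simp only [List.mem_cons, List.not_mem_nil, or_false] at hr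
  rcases hr with rfl | rfl | rfl | rfl | rfl | rfl | rfl
  · exact CfsgLib.J4Large.no_five_seven hI (Or.inl rfl) hg hd
  · exact CfsgLib.J4Large.no_five_seven hI (Or.inr rfl) hg hd
  · exact big 22 hmain.1 (by simp [CfsgLib.J4Large.bigs])
  · exact big 28 hmain.2.1 (by simp [CfsgLib.J4Large.bigs])
  · exact big 10 hmain.2.2.1 (by simp [CfsgLib.J4Large.bigs])
  · exact big 12 hmain.2.2.2.1 (by simp [CfsgLib.J4Large.bigs])
  · exact big 14 hmain.2.2.2.2 (by simp [CfsgLib.J4Large.bigs])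

/-- The centraliser of an element of order 11 has order dividing `2^3 · 3 · 11^3`. -/
theorem cent_dvd {x : G} (hx : orderOf x = 11) :
    Nat.card (centralizer ({x} : Set G)) ∣ 24 * 1331 := by
  set n := Nat.card (centralizer ({x} : Set G))
  have h1 : n ∣ (2 ^ 21 * 3 ^ 3 * 11 ^ 3) * (5 * 7 * 23 * 29 * 31 * 37 * 43) := by
    refine (Subgroup.card_subgroup_dvd_card _).trans (dvd_of_eq ?_)
    rw [order_eq hI]; norm_num [order]
  have hco : n.Coprime (5 * 7 * 23 * 29 * 31 * 37 * 43) := by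
    have key : ∀ r, r ∈ [5, 7, 23, 29, 31, 37, 43] → r.Prime → n.Coprime r := fun r hr hp =>
      (hp.coprime_iff_not_dvd.2 (not_dvd_cent hI hx hr)).symm
    repeat' apply Nat.Coprime.mul_right
    all_goals exact key _ (by simp) (by norm_num)
  have h2 : n ∣ 1 * 2 ^ 21 * 3 ^ 3 * 11 ^ 3 := by rw [one_mul]; exact hco.dvd_of_dvd_mul_right h1
  obtain ⟨c, hc, d1, e1, hn1⟩ := exists_mul_of_dvd_mul (by norm_num) h2
  obtain ⟨b, hb, d2, e2, hn2⟩ := exists_mul_of_dvd_mul (by norm_num) e1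
  obtain ⟨a, ha, d3, e3, hn3⟩ := exists_mul_of_dvd_mul (by norm_num) e2
  rw [Nat.dvd_one] at e3
  rw [hn2, hn3, e3, one_mul] at hn1
  have ha3 : a ≤ 3 := by
    by_contra h
    refine CfsgLib.J4Large.no_sixteen hI hx ?_
    show 16 ∣ n
    rw [hn1, mul_assoc]
    exact Dvd.dvd.mul_right (pow_dvd_pow 2 (show 4 ≤ a by omega)) _
  have hb1 : b ≤ 1 := by
    by_contra h
    refine CfsgLib.J4Large.no_nine hI hx ?_
    show 9 ∣ n
    rw [hn1]
    exact Dvd.dvd.mul_right (Dvd.dvd.mul_left (pow_dvd_pow 3 (show 2 ≤ b by omega)) _) _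
  rw [hn1, show 24 * 1331 = 2 ^ 3 * 3 ^ 1 * 11 ^ 3 by norm_num]
  exact mul_dvd_mul (mul_dvd_mul (pow_dvd_pow 2 ha3) (pow_dvd_pow 3 hb1)) (pow_dvd_pow 11 (by omega))

/-- Elements of order 11 centralising an element of order 3 are conjugate into `⟨x⟩`. -/
theorem conj_of_three {x g : G} (hx : x ∈ cH z) (hxo : orderOf x = 11) (hg : orderOf g = 11)
    (h : 3 ∣ Nat.card (centralizer ({g} : Set G))) : ∃ m : G, m * g * m⁻¹ ∈ zpowers x := by
  haveI : Fact (Nat.Prime 3) := ⟨Nat.prime_three⟩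
  obtain ⟨r, hr⟩ := exists_prime_orderOf_dvd_card' (G := centralizer ({g} : Set G)) 3 h
  obtain ⟨m, hm⟩ := CfsgLib.J4Large.exists_conj_P hI (g := (r : G)) (by rw [Subgroup.orderOf_coe, hr])
  have hgC : m * g * m⁻¹ ∈ cH z := by
    refine (?_ : m * g * m⁻¹ ∈ cC z P).1
    rw [← hm, ← CfsgLib.J4Large.map_centralizer]
    exact ⟨g, mem_centralizer_singleton_iff.2 (mem_centralizer_singleton_iff.1 r.2).symm, rfl⟩
  obtain ⟨h, -, hh⟩ := conj_eleven hI.type hx hxo hgC (by rw [orderOf_conj7, hg])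
  exact ⟨h * m, by rwa [show h * m * g * (h * m)⁻¹ = h * (m * g * m⁻¹) * h⁻¹ by group]⟩

omit hI in
/-- Elements of order 11 centralising a conjugate of `z` are conjugate into `⟨x⟩`. -/
theorem conj_of_invol (hJ : IsOfJankoFourTypeWith z P) {x g u : G} (hx : x ∈ cH z) (hxo : orderOf x = 11)
    (hg : orderOf g = 11) (hu : IsConj z u) (hgu : g * u = u * g) : ∃ m : G, m * g * m⁻¹ ∈ zpowers x := by
  obtain ⟨c, rfl⟩ := isConj_iff.1 hu
  have hgC : c⁻¹ * g * c⁻¹⁻¹ ∈ cH z := by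
    rw [mem_cH, inv_inv]
    calc c⁻¹ * g * c * z = c⁻¹ * (g * (c * z * c⁻¹)) * c := by group
      _ = c⁻¹ * ((c * z * c⁻¹) * g) * c := by rw [hgu]
      _ = z * (c⁻¹ * g * c) := by group
  obtain ⟨h, -, hh⟩ := conj_eleven hJ hx hxo hgC (by rw [orderOf_conj7, hg])
  exact ⟨h * c⁻¹, by rwa [show h * c⁻¹ * g * (h * c⁻¹)⁻¹ = h * (c⁻¹ * g * c⁻¹⁻¹) * h⁻¹ by group]⟩

variable {x : G} (hx : x ∈ cC z P) (hxo : orderOf x = 11)

include hx hxo

omit hI in
/-- `C_E(x)` is nonabelian with commutator `z`. -/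
theorem exists_commutator (hJ : IsOfJankoFourTypeWith z P) : ∃ b ∈ cE z ⊓ centralizer ({x} : Set G),
    ∃ c ∈ cE z ⊓ centralizer ({x} : Set G), b * c = z * (c * b) := by
  set B := cE z ⊓ centralizer ({x} : Set G)
  by_contra hno
  push Not at hno
  have hab : ∀ b ∈ B, ∀ c ∈ B, b * c = c * b := by
    intro b hb c hc
    rcases CfsgLib.J4Five.comm_mem_zpowers hJ hb.1 hc.1 with h | h
    · exact commutatorElement_eq_one_iff_mul_comm.1 h
    · refine absurd ?_ (hno b hb c hc)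
      rw [← h, commutatorElement_def]; group
  letI : CommGroup ↥B := { (inferInstance : Group ↥B) with
    mul_comm := fun a b => Subtype.ext (hab a a.2 b b.2) }
  let f : ↥B →* ↥B := powMonoidHom 2
  have h2 : ∀ b : ↥B, (b : G) * b = 1 ∨ (b : G) * b = z := fun b => CfsgLib.J4Five.sq_mem_zpowers hJ b.2.1
  have hzB : z ∈ B := ⟨z_mem_E hJ, mem_centralizer_singleton_iff.2 (mem_cH.1 hx.1).symm⟩
  have hcard : ∀ D : Subgroup ↥B, (∀ b ∈ D, (b : G) = 1 ∨ (b : G) = z) → Nat.card D ≤ 2 := by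
    intro D hD
    have hle : D ≤ (zpowers z).subgroupOf B := fun b hb => mem_subgroupOf.2 <| by
      rcases hD b hb with h | h <;> rw [h]
      · exact one_mem _
      · exact mem_zpowers z
    refine (Subgroup.card_le_of_le hle).trans ?_
    rw [Nat.card_congr (Subgroup.subgroupOfEquivOfLe (zpowers_le.2 hzB)).toEquiv, Nat.card_zpowers, orderOf_z hJ]
  have hk : Nat.card f.ker ≤ 2 := hcard _ fun b hb => by
    have hbb : (b : G) * b = 1 := by simpa [f, pow_two] using congrArg Subtype.val (MonoidHom.mem_ker.1 hb)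
    exact CfsgLib.J4SylEleven.invol_eq hJ hx hxo ⟨E_le_H b.2.1, b.2.2⟩ hbb
  have hr : Nat.card f.range ≤ 2 := hcard _ fun b hb => by
    obtain ⟨a, rfl⟩ := hb
    simpa [f, pow_two] using h2 a
  have h := f.ker.card_mul_index
  rw [Subgroup.index_ker, card_fixE hJ hx hxo] at h
  have := Nat.mul_le_mul hk hr
  omega

/-- No cyclic quotient modulo `⟨x⟩` of an 11-group normalised by `C_E(x)`. -/
theorem no_cyclic_quot {U : Subgroup G} (hxU : x ∈ U) (hUx : U ≤ centralizer ({x} : Set G))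
    (hUp : IsPGroup 11 U)
    (hB : ∀ b ∈ cE z ⊓ centralizer ({x} : Set G), ∀ u ∈ U, b * u * b⁻¹ ∈ U)
    {v : G} (hv : v ∈ U) (hvx : v ∉ zpowers x) (hcyc : ∀ u ∈ U, ∃ j : ℕ, u * (v ^ j)⁻¹ ∈ zpowers x) :
    False := by
  have hJ := hI.type
  have hcomm : ∀ u ∈ U, ∀ c ∈ zpowers x, Commute u c := by
    intro u hu c hc
    obtain ⟨i, rfl⟩ := mem_zpowers_iff.1 hc
    exact (show Commute u x from mem_centralizer_singleton_iff.1 (hUx hu)).zpow_right i
  have hact : ∀ b ∈ cE z ⊓ centralizer ({x} : Set G), ∃ j : ℕ, ∀ k : ℕ,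
      b * v ^ k * b⁻¹ * (v ^ (j * k))⁻¹ ∈ zpowers x := by
    intro b hb
    obtain ⟨j, hj⟩ := hcyc _ (hB b hb v hv)
    refine ⟨j, fun k => ?_⟩
    have e : b * v ^ k * b⁻¹ = (b * v * b⁻¹ * (v ^ j)⁻¹) ^ k * v ^ (j * k) := by
      rw [pow_mul, ← (hcomm (v ^ j) (pow_mem hv j) _ hj).symm.mul_pow, inv_mul_cancel_right, conj_pow]
    rw [e, mul_inv_cancel_right]
    exact pow_mem hj k
  obtain ⟨b, hb, c, hc, hbc⟩ := exists_commutator hx hxo hJ
  obtain ⟨j, hj⟩ := hact b hb
  obtain ⟨k, hk⟩ := hact c hc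
  have hbx : ∀ e ∈ cE z ⊓ centralizer ({x} : Set G), ∀ y ∈ zpowers x, e * y * e⁻¹ = y := by
    intro e he y hy
    obtain ⟨i, rfl⟩ := mem_zpowers_iff.1 hy
    rw [((show Commute e x from mem_centralizer_singleton_iff.1 he.2).zpow_right i).eq, mul_inv_cancel_right]
  have key : ∀ e ∈ cE z ⊓ centralizer ({x} : Set G), ∀ (i m : ℕ) (w : G), w * (v ^ i)⁻¹ ∈ zpowers x →
      (∀ n : ℕ, e * v ^ n * e⁻¹ * (v ^ (m * n))⁻¹ ∈ zpowers x) →
      e * w * e⁻¹ * (v ^ (m * i))⁻¹ ∈ zpowers x := by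
    intro e he i m w hw hm
    rw [show e * w * e⁻¹ * (v ^ (m * i))⁻¹ =
      (e * (w * (v ^ i)⁻¹) * e⁻¹) * (e * v ^ i * e⁻¹ * (v ^ (m * i))⁻¹) by group, hbx e he _ hw]
    exact mul_mem hw (hm i)
  have hk1 : c * v * c⁻¹ * (v ^ k)⁻¹ ∈ zpowers x := by
    have := hk 1
    rwa [pow_one, mul_one] at this
  have hj1 : b * v * b⁻¹ * (v ^ j)⁻¹ ∈ zpowers x := by
    have := hj 1
    rwa [pow_one, mul_one] at this
  have h1 := key b hb k j _ hk1 hj
  have h2 := key c hc j k _ hj1 hk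
  set w := c * b * v * (c * b)⁻¹
  have hw : w = c * (b * v * b⁻¹) * c⁻¹ := by simp only [w]; group
  have hz : z * w * z⁻¹ = b * (c * v * c⁻¹) * b⁻¹ := by
    calc z * w * z⁻¹ = z * (c * b) * v * (z * (c * b))⁻¹ := by simp only [w]; group
      _ = _ := by rw [← hbc]; group
  have hd : z * w * z⁻¹ * w⁻¹ ∈ zpowers x := by
    rw [hz, hw]
    have := mul_mem h1 (inv_mem h2)
    rw [mul_comm k j] at this
    simpa [mul_assoc] using this
  have hzB : z ∈ cE z ⊓ centralizer ({x} : Set G) :=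
    ⟨z_mem_E hJ, mem_centralizer_singleton_iff.2 (mem_cH.1 hx.1).symm⟩
  set y := z * w * z⁻¹ * w⁻¹ with hy
  have hzz : z * z = 1 := z_sq hJ
  have hzi : z⁻¹ = z := inv_eq_of_mul_eq_one_right hzz
  have hyy : y * y = 1 := by
    have e1 : z * w * z⁻¹ = y * w := by rw [hy, inv_mul_cancel_right]
    have e2 : w = y * y * w := by
      calc w = z * (z * w * z⁻¹) * z⁻¹ := by
            conv_lhs => rw [show w = (z * z) * w * (z * z)⁻¹ by rw [hzz]; group]
            group
        _ = z * (y * w) * z⁻¹ := by rw [← e1]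
        _ = (z * y * z⁻¹) * (z * w * z⁻¹) := by group
        _ = y * (y * w) := by rw [hbx z hzB y hd, e1]
        _ = _ := by group
    exact mul_eq_right.1 e2.symm
  have hy1 : y = 1 := by
    have h := Subgroup.orderOf_dvd_natCard _ hd
    rw [Nat.card_zpowers, hxo] at h
    have h2' : orderOf y ∣ 2 := orderOf_dvd_of_pow_eq_one (by rw [pow_two]; exact hyy)
    exact orderOf_eq_one_iff.1 (Nat.dvd_one.1 (by
      rw [show 1 = Nat.gcd 11 2 from rfl]; exact Nat.dvd_gcd h h2'))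
  have hwU : w ∈ U := by rw [hw]; exact hB c hc _ (hB b hb v hv)
  have hwH : w ∈ cH z ⊓ centralizer ({x} : Set G) :=
    ⟨mem_cH.2 (mul_inv_eq_iff_eq_mul.1 (mul_inv_eq_one.1 hy1)).symm, hUx hwU⟩
  obtain ⟨n, hn⟩ := hUp ⟨w, hwU⟩
  have hwn : w ^ 11 ^ n = 1 := congrArg Subtype.val hn
  have h264 := Subgroup.orderOf_dvd_natCard _ hwH
  rw [(card_cent_norm hJ hx hxo).1] at h264
  have h11 : orderOf w ∣ 11 := by
    obtain ⟨i, -, hi⟩ := (Nat.dvd_prime_pow (by norm_num)).1 (orderOf_dvd_of_pow_eq_one hwn)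
    rw [hi] at h264 ⊢
    rcases i with _ | _ | i
    · simp
    · simp
    · exfalso
      have := (Dvd.intro_left (11 ^ i) (show 11 ^ i * 121 = 11 ^ (i + 1 + 1) by ring)).trans h264
      norm_num at this
  have hwx : w ∈ zpowers x := by
    haveI : Fact (Nat.Prime 11) := ⟨by norm_num⟩
    set D := cH z ⊓ centralizer ({x} : Set G)
    have hxD : x ∈ D := ⟨hx.1, mem_centralizer_singleton_iff.2 rfl⟩
    have hc11 : Nat.card ↥((zpowers x).subgroupOf D) = 11 := by
      rw [Nat.card_congr (Subgroup.subgroupOfEquivOfLe (zpowers_le.2 hxD)).toEquiv, Nat.card_zpowers, hxo]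
    haveI : ((zpowers x).subgroupOf D).Normal := ⟨fun a ha g => by
      rw [mem_subgroupOf] at ha ⊢
      obtain ⟨i, hi⟩ := mem_zpowers_iff.1 ha
      show (g : G) * a * (g : G)⁻¹ ∈ zpowers x
      rw [← hi, ((show Commute (g : G) x from mem_centralizer_singleton_iff.1 g.2.2).zpow_right i).eq,
        mul_inv_cancel_right]
      exact zpow_mem (mem_zpowers x) i⟩
    have hidx : ((zpowers x).subgroupOf D).index = 24 := by
      have := ((zpowers x).subgroupOf D).card_mul_index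
      rw [hc11, (card_cent_norm hJ hx hxo).1] at this
      omega
    have h24 := ((zpowers x).subgroupOf D).pow_index_mem ⟨w, hwH⟩
    rw [hidx, mem_subgroupOf] at h24
    have hw11 : w ^ 11 = 1 := orderOf_dvd_iff_pow_eq_one.1 h11
    have : (w ^ 24) ^ 6 = w := by
      rw [← pow_mul, show 24 * 6 = 11 * 13 + 1 by norm_num, pow_succ, pow_mul, hw11, one_pow, one_mul]
    rw [← this]
    exact pow_mem (by simpa using h24) 6
  refine hvx ?_
  have hcb : c * b ∈ cE z ⊓ centralizer ({x} : Set G) := mul_mem hc hb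
  have e := hbx _ (inv_mem hcb) w hwx
  rw [show v = (c * b)⁻¹ * w * (c * b)⁻¹⁻¹ by simp only [w]; group, e]
  exact hwx

/-- The centraliser of `x`: order `2^3 · 3 · 11^3`, with a normal Sylow 11-subgroup of exponent 11, split by
`z` over `⟨x⟩`. -/
theorem exists_sylow_x : ∃ U : Subgroup G, Nat.card U = 1331 ∧
    Nat.card (centralizer ({x} : Set G)) = 31944 ∧ U ≤ centralizer ({x} : Set G) ∧ x ∈ U ∧
    (∀ Q : Subgroup G, Q ≤ centralizer ({x} : Set G) → IsPGroup 11 Q → Q ≤ U) ∧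
    (∀ u ∈ U, u ^ 11 = 1) ∧
    (∀ u ∈ U, ∃ c ∈ zpowers x, ∃ v ∈ U, z * v * z⁻¹ = v⁻¹ ∧ u = c * v) := by
  have hJ := hI.type
  haveI : Fact (Nat.Prime 11) := ⟨by norm_num⟩
  haveI : Fact (Nat.Prime 3) := ⟨Nat.prime_three⟩
  set C := centralizer ({x} : Set G) with hC
  have hdvd := cent_dvd hI hxo
  have h264 : 264 ∣ Nat.card C := (card_cent_norm hJ hx hxo).1 ▸ Subgroup.card_dvd_of_le inf_le_right
  -- 121 divides the order
  have h121 : 121 ∣ Nat.card C := by
    obtain ⟨T, hT⟩ := (IsPGroup.of_card (p := 11) (G := zpowers x) (n := 1)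
      (by rw [Nat.card_zpowers, hxo, pow_one])).exists_le_sylow
    have hTc : Nat.card (T : Subgroup G) = 1331 := by
      rw [T.card_eq_multiplicity, order_eq hI, show order = 11 ^ 3 * (2 ^ 21 * 3 ^ 3 * 5 * 7 * 23 * 29 * 31 * 37 * 43) by norm_num [order],
        Nat.factorization_mul (by norm_num) (by norm_num), Finsupp.add_apply, Nat.Prime.factorization_pow (by norm_num),
        Finsupp.single_eq_same, Nat.factorization_eq_zero_of_not_dvd (by norm_num)]
      norm_num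
    haveI : Group.IsNilpotent (T : Subgroup G) := T.2.isNilpotent
    have hlt : (zpowers x).subgroupOf T < ⊤ := lt_top_iff_ne_top.2 fun e => by
      have := Subgroup.card_le_of_le (subgroupOf_eq_top.1 e)
      rw [hTc, Nat.card_zpowers, hxo] at this
      omega
    obtain ⟨n, hnN, hnx⟩ := SetLike.exists_of_lt (Group.normalizerCondition_of_isNilpotent _ hlt)
    have hxT : x ∈ (T : Subgroup G) := hT (mem_zpowers x)
    have hnC : (n : G) ∈ C := by
      refine CfsgLib.J4Large.cent_of_normalizes hxo ?_ ?_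
      · obtain ⟨k, hk⟩ := T.2 n
        exact Nat.Coprime.coprime_dvd_left (orderOf_dvd_of_pow_eq_one (congrArg Subtype.val hk))
          (Nat.Coprime.pow_left _ (by norm_num))
      · have := (mem_normalizer_iff.1 hnN ⟨x, hxT⟩).1 (mem_subgroupOf.2 (mem_zpowers x))
        exact mem_subgroupOf.1 this
    set Q := ((T : Subgroup G) ⊓ C)
    have hxQ : zpowers x ≤ Q := zpowers_le.2 ⟨hxT, mem_centralizer_singleton_iff.2 rfl⟩
    have hlt' : zpowers x < Q := lt_of_le_of_ne hxQ fun e => hnx (mem_subgroupOf.2 (e ▸ ⟨n.2, hnC⟩))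
    obtain ⟨k, -, hk⟩ := (Nat.dvd_prime_pow (by norm_num : Nat.Prime 11)).1
      (show Nat.card Q ∣ 11 ^ 3 by rw [show 11 ^ 3 = 1331 by norm_num, ← hTc]; exact Subgroup.card_dvd_of_le inf_le_left)
    have h11 := CfsgLib.Solvable.card_lt_of_lt hlt'
    rw [Nat.card_zpowers, hxo, hk] at h11
    have hk2 : 2 ≤ k := by
      by_contra h
      have := Nat.pow_le_pow_right (show 1 ≤ 11 by norm_num) (show k ≤ 1 by omega)
      omega
    exact (pow_dvd_pow 11 hk2).trans (hk ▸ Subgroup.card_dvd_of_le inf_le_right)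
  -- the Sylow 3-subgroup and the complement
  have hPC : P ≤ C := fun p hp => mem_centralizer_singleton_iff.2 (Subgroup.mem_centralizer_iff.1 hx.2 p hp)
  set PC := P.subgroupOf C
  have hPCc : Nat.card PC = 3 := by
    rw [Nat.card_congr (Subgroup.subgroupOfEquivOfLe hPC).toEquiv, card_P hJ]
  have hPi : ¬ 3 ∣ PC.index := by
    intro h
    refine CfsgLib.J4Large.no_nine hI hxo ?_
    rw [← hC, ← PC.card_mul_index, hPCc]
    exact mul_dvd_mul_left 3 h
  let S3 : Sylow 3 C := (IsPGroup.of_card (n := 1) (by rw [hPCc, pow_one])).toSylow hPi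
  have hS3 : normalizer ((S3 : Subgroup C) : Set C) ≤ centralizer ((S3 : Subgroup C) : Set C) := by
    intro n hn
    have hnP : (n : G) ∈ normalizer (P : Set G) := by
      rw [mem_normalizer_iff]
      intro p
      constructor
      · intro hp
        exact mem_subgroupOf.1 ((mem_normalizer_iff.1 hn ⟨p, hPC hp⟩).1 (mem_subgroupOf.2 hp))
      · intro hp
        have hpC : p ∈ C := by
          have := mul_mem (mul_mem (inv_mem n.2) (hPC hp)) n.2
          simpa [mul_assoc] using this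
        exact mem_subgroupOf.1 ((mem_normalizer_iff.1 hn ⟨p, hpC⟩).2 (mem_subgroupOf.2 hp))
    have hnc := fix_normP hJ hx hxo (Subgroup.mem_inf.2 ⟨hI.normP hnP, n.2⟩) hnP
    rw [Subgroup.mem_centralizer_iff]
    intro p hp
    exact Subtype.ext (Subgroup.mem_centralizer_iff.1 hnc p hp)
  set M := (MonoidHom.transferSylow S3 hS3).ker
  have hMi : M.index = 3 := by
    rw [(MonoidHom.ker_transferSylow_isComplement' S3 hS3).symm.index_eq_card]
    exact hPCc
  -- the Sylow 11-subgroup of the complement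
  obtain ⟨k, hk⟩ : ∃ k, Nat.card C = 264 * k := h264
  have hk2 : 11 ∣ k := by
    have : 11 * 11 ∣ 11 * (24 * k) := by rw [← mul_assoc]; norm_num; rw [← hk]; exact h121
    exact (Nat.Coprime.dvd_of_dvd_mul_left (by norm_num) (Nat.dvd_of_mul_dvd_mul_left (by norm_num) this))
  have hk3 : k ∣ 121 := Nat.dvd_of_mul_dvd_mul_left (show 0 < 264 by norm_num) (by rw [← hk]; exact hdvd)
  have hcases : Nat.card M = 8 * 121 ∨ Nat.card M = 8 * 1331 := by
    have hm := M.card_mul_index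
    rw [hMi, hk] at hm
    obtain ⟨i, hi, rfl⟩ := (Nat.dvd_prime_pow (show Nat.Prime 11 by norm_num)).1
      (show k ∣ 11 ^ 2 by norm_num; exact hk3)
    interval_cases i
    · norm_num at hk2
    · left; norm_num at hm; omega
    · right; norm_num at hm; omega
  obtain ⟨Q⟩ : Nonempty (Sylow 11 M) := inferInstance
  haveI : Subsingleton (Sylow 11 M) := by
    have h1 := card_sylow_modEq_one (p := 11) (G := M)
    have h2 : Nat.card (Sylow 11 M) ∣ 8 := by
      rw [Q.card_eq_index_normalizer]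
      refine dvd_trans (Subgroup.index_dvd_of_le Subgroup.le_normalizer) ?_
      have hi := Q.not_dvd_index
      obtain ⟨e, he⟩ := IsPGroup.iff_card.1 Q.2
      have hm := (Q : Subgroup M).card_mul_index
      rw [he] at hm
      have hd : (Q : Subgroup M).index ∣ 8 * 1331 := by
        rcases hcases with h | h
        · exact (Dvd.intro_left _ hm).trans (h ▸ ⟨11, by norm_num⟩)
        · exact (Dvd.intro_left _ hm).trans h.dvd
      refine Nat.Coprime.dvd_of_dvd_mul_right ?_ hd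
      exact ((show Nat.Prime 11 by norm_num).coprime_iff_not_dvd.2 hi).symm.pow_right 3
    have h3 : Nat.card (Sylow 11 M) = 1 := by
      have := Nat.le_of_dvd (by norm_num) h2
      unfold Nat.ModEq at h1
      omega
    exact (Nat.card_eq_one_iff_unique.1 h3).1
  set U : Subgroup G := ((Q : Subgroup M).map M.subtype).map C.subtype with hU
  have hUC : U ≤ C := Subgroup.map_subtype_le _
  have hUmax : ∀ R : Subgroup G, R ≤ C → IsPGroup 11 R → R ≤ U := by
    intro R hR hRp r hr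
    haveI : M.Normal := MonoidHom.normal_ker _
    have hrM : (⟨r, hR hr⟩ : C) ∈ M := by
      obtain ⟨n, hn⟩ := hRp ⟨r, hr⟩
      set a : C := ⟨r, hR hr⟩
      have hn' : a ^ 11 ^ n = 1 := Subtype.ext (congrArg Subtype.val hn :)
      have h3 : a ^ 3 ∈ M := hMi ▸ M.pow_index_mem a
      have hg : Nat.gcd 3 (11 ^ n) = 1 := Nat.Coprime.pow_right n (by norm_num)
      have hbez := Nat.gcd_eq_gcd_ab 3 (11 ^ n)
      rw [hg] at hbez
      have e : a = (a ^ 3) ^ Nat.gcdA 3 (11 ^ n) * (a ^ (11 ^ n)) ^ Nat.gcdB 3 (11 ^ n) := by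
        rw [← zpow_natCast a 3, ← zpow_natCast a (11 ^ n), ← zpow_mul, ← zpow_mul, ← zpow_add, ← hbez, Nat.cast_one,
          zpow_one]
      rw [e, hn', one_zpow, mul_one]
      exact zpow_mem h3 _
    obtain ⟨T, hT⟩ := (show IsPGroup 11 (zpowers (⟨⟨r, hR hr⟩, hrM⟩ : M)) from by
      obtain ⟨n, hn⟩ := hRp ⟨r, hr⟩
      obtain ⟨i, -, hi⟩ := (Nat.dvd_prime_pow (show Nat.Prime 11 by norm_num)).1
        (orderOf_dvd_of_pow_eq_one (show (⟨⟨r, hR hr⟩, hrM⟩ : M) ^ 11 ^ n = 1 from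
          Subtype.ext (Subtype.ext (congrArg Subtype.val hn :))))
      exact IsPGroup.of_card (n := i) (by rw [Nat.card_zpowers, hi])).exists_le_sylow
    rw [Subsingleton.elim T Q] at hT
    exact ⟨⟨r, hR hr⟩, ⟨⟨⟨r, hR hr⟩, hrM⟩, hT (mem_zpowers _), rfl⟩, rfl⟩
  have hxU : x ∈ U := hUmax (zpowers x) (zpowers_le.2 (mem_centralizer_singleton_iff.2 rfl))
    (IsPGroup.of_card (n := 1) (by rw [Nat.card_zpowers, hxo, pow_one])) (mem_zpowers x)
  have hUp : IsPGroup 11 U := (Q.2.map M.subtype).map C.subtype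
  have hBU : ∀ b ∈ C, ∀ u ∈ U, b * u * b⁻¹ ∈ U := by
    intro b hb u hu
    refine hUmax (U.map (MulAut.conj b).toMonoidHom) ?_ (hUp.map _) ⟨u, hu, rfl⟩
    rintro _ ⟨w, hw, rfl⟩
    exact mul_mem (mul_mem hb (hUC hw)) (inv_mem hb)
  have hcomm : ∀ u ∈ U, ∀ c ∈ zpowers x, Commute u c := by
    intro u hu c hc
    obtain ⟨i, rfl⟩ := mem_zpowers_iff.1 hc
    exact (show Commute u x from mem_centralizer_singleton_iff.1 (hUC hu)).zpow_right i
  have hsup : ∀ v ∈ U, (∀ u ∈ U, u ∈ zpowers x ⊔ zpowers v) → ∀ u ∈ U, ∃ j : ℕ, u * (v ^ j)⁻¹ ∈ zpowers x := by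
    intro v hv hall u hu
    have hn : zpowers v ≤ normalizer ((zpowers x : Subgroup G) : Set G) := by
      refine zpowers_le.2 (mem_norm_zpowers.2 ?_)
      rw [(hcomm v hv x (mem_zpowers x)).eq, mul_inv_cancel_right]
    have hu' := hall u hu
    rw [sup_comm] at hu'
    obtain ⟨a, ha, c, hc, rfl⟩ := (CfsgLib.Solvable.mem_sup_of_le_normalizer hn).1 hu'
    obtain ⟨j, rfl⟩ := mem_powers_iff_mem_zpowers.2 ha
    refine ⟨j, ?_⟩
    show v ^ j * c * (v ^ j)⁻¹ ∈ zpowers x
    rw [(hcomm _ (pow_mem hv j) c hc).eq, mul_inv_cancel_right]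
    exact hc
  have hBC : cE z ⊓ centralizer ({x} : Set G) ≤ C := inf_le_right
  have hUQ : Nat.card U = Nat.card (Q : Subgroup M) := by
    rw [hU, Subgroup.card_map_of_injective Subtype.val_injective, Subgroup.card_map_of_injective Subtype.val_injective]
  have hQc : ∀ e, Nat.card M = 8 * 11 ^ e → Nat.card U = 11 ^ e := fun e he => by
    rw [hUQ, Q.card_eq_multiplicity, he, Nat.factorization_mul (by norm_num) (pow_ne_zero _ (by norm_num)),
      Finsupp.add_apply, Nat.Prime.factorization_pow (by norm_num), Finsupp.single_eq_same,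
      Nat.factorization_eq_zero_of_not_dvd (by norm_num), zero_add]
  have hM : Nat.card M = 8 * 1331 := by
    refine hcases.resolve_left fun h => ?_
    have hU2 : Nat.card U = 11 ^ 2 := hQc 2 (by rw [h]; norm_num)
    obtain ⟨v, hv, hvx⟩ : ∃ v ∈ U, v ∉ zpowers x := by
      by_contra hh
      push Not at hh
      have := Subgroup.card_le_of_le (show U ≤ zpowers x from hh)
      rw [hU2, Nat.card_zpowers, hxo] at this
      norm_num at this
    refine no_cyclic_quot hI hx hxo hxU hUC hUp (fun b hb => hBU b (hBC hb)) hv hvx (hsup v hv fun u hu => ?_)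
    have hle : zpowers x ⊔ zpowers v ≤ U := sup_le (zpowers_le.2 hxU) (zpowers_le.2 hv)
    obtain ⟨i, -, hi⟩ := (Nat.dvd_prime_pow (by norm_num : Nat.Prime 11)).1 (hU2 ▸ Subgroup.card_dvd_of_le hle)
    have hlt : zpowers x < zpowers x ⊔ zpowers v := lt_of_le_of_ne le_sup_left fun e =>
      hvx (e ▸ (le_sup_right : zpowers v ≤ zpowers x ⊔ zpowers v) (mem_zpowers v))
    have h11 := CfsgLib.Solvable.card_lt_of_lt hlt
    rw [Nat.card_zpowers, hxo, hi] at h11
    have hi2 : 2 ≤ i := by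
      by_contra hh
      have := Nat.pow_le_pow_right (show 1 ≤ 11 by norm_num) (show i ≤ 1 by omega)
      omega
    rw [eq_of_le_of_card_ge hle (by rw [hU2, hi]; exact Nat.pow_le_pow_right (by norm_num) hi2)]
    exact hu
  have hUc : Nat.card U = 1331 := hQc 3 (by rw [hM]; norm_num)
  have hCc : Nat.card C = 31944 := by
    have := M.card_mul_index
    rw [hM, hMi] at this
    omega
  have hzC : z ∈ C := mem_centralizer_singleton_iff.2 (mem_cH.1 hx.1).symm
  have hzz : z * z = 1 := z_sq hJ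
  have hfixU : ∀ u ∈ U, z * u * z⁻¹ = u → u ∈ zpowers x := by
    intro u hu hzu
    set D := U ⊓ cH z
    have hxD : zpowers x ≤ D := zpowers_le.2 ⟨hxU, hx.1⟩
    have huD : u ∈ D := ⟨hu, mem_cH.2 (mul_inv_eq_iff_eq_mul.1 hzu).symm⟩
    have hDle : D ≤ cH z ⊓ centralizer ({x} : Set G) := fun a ha => ⟨ha.2, hUC ha.1⟩
    have hd1 := Subgroup.card_dvd_of_le (inf_le_left : D ≤ U)
    have hd2 := Subgroup.card_dvd_of_le hDle
    rw [hUc] at hd1
    rw [(card_cent_norm hJ hx hxo).1] at hd2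
    have hd : Nat.card D ∣ 11 := (Nat.dvd_gcd hd1 hd2).trans (by norm_num)
    rw [eq_of_le_of_card_ge hxD (by rw [Nat.card_zpowers, hxo]; exact Nat.le_of_dvd (by norm_num) hd)]
    exact huD
  have hsplit : ∀ u ∈ U, ∃ c ∈ zpowers x, ∃ v ∈ U, z * v * z⁻¹ = v⁻¹ ∧ u = c * v := by
    intro u hu
    set d := u⁻¹ * (z * u * z⁻¹) with hd
    have hdU : d ∈ U := mul_mem (inv_mem hu) (hBU z hzC u hu)
    have hzd : z * d * z⁻¹ = d⁻¹ := by
      rw [hd, show z * (u⁻¹ * (z * u * z⁻¹)) * z⁻¹ = (z * u⁻¹ * z⁻¹) * ((z * z) * u * (z * z)⁻¹) by group, hzz]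
      group
    have hd1331 : d ^ 1331 = 1 := by
      have := congrArg Subtype.val (pow_card_eq_one' (G := U) (x := ⟨d, hdU⟩))
      rw [hUc] at this
      exact this
    set e := d ^ 666 with he
    have hee : e * e = d := by
      rw [he, ← pow_add, show 666 + 666 = 1331 + 1 by norm_num, pow_succ, hd1331, one_mul]
    have heU : e ∈ U := pow_mem hdU 666
    have hze : z * e * z⁻¹ = e⁻¹ := by rw [he, ← conj_pow, hzd, inv_pow]
    refine ⟨u * e, hfixU _ (mul_mem hu heU) ?_, e⁻¹, inv_mem heU, ?_, (mul_inv_cancel_right u e).symm⟩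
    · calc z * (u * e) * z⁻¹ = (z * u * z⁻¹) * (z * e * z⁻¹) := by group
        _ = u * d * e⁻¹ := by rw [hze, hd]; group
        _ = u * e := by rw [← hee]; group
    · rw [← conj_inv, hze]
  refine ⟨U, hUc, hCc, hUC, hxU, hUmax, fun u hu => ?_, hsplit⟩
  obtain ⟨c, hc, v, hv, hzv, rfl⟩ := hsplit u hu
  have hvx : v ^ 11 ∈ zpowers x := by
    by_contra hn
    have hvn : v ∉ zpowers x := fun h => hn (pow_mem h 11)
    refine no_cyclic_quot hI hx hxo hxU hUC hUp (fun b hb => hBU b (hBC hb)) hv hvn (hsup v hv fun w hw => ?_)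
    set A := zpowers x ⊔ zpowers (v ^ 11)
    set B := zpowers x ⊔ zpowers v
    have hAB : A ≤ B := sup_le le_sup_left (le_sup_of_le_right (zpowers_le.2 (pow_mem (mem_zpowers v) 11)))
    have hBU' : B ≤ U := sup_le (zpowers_le.2 hxU) (zpowers_le.2 hv)
    have hxA : zpowers x < A := lt_of_le_of_ne le_sup_left fun e =>
      hn (e ▸ (le_sup_right : zpowers (v ^ 11) ≤ A) (mem_zpowers _))
    have hvA : v ∉ A := by
      intro hvA
      have hnn : zpowers (v ^ 11) ≤ normalizer ((zpowers x : Subgroup G) : Set G) := by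
        refine zpowers_le.2 (mem_norm_zpowers.2 ?_)
        rw [(hcomm _ (pow_mem hv 11) x (mem_zpowers x)).eq, mul_inv_cancel_right]
      have hvA' : v ∈ zpowers (v ^ 11) ⊔ zpowers x := by rw [sup_comm]; exact hvA
      obtain ⟨a, ha, c', hc', hvac⟩ := (CfsgLib.Solvable.mem_sup_of_le_normalizer hnn).1 hvA'
      obtain ⟨i, rfl⟩ := mem_zpowers_iff.1 ha
      -- a power of `v` prime to 11 lies in `⟨x⟩`
      have hv1331 : v ^ 1331 = 1 := by
        have := congrArg Subtype.val (pow_card_eq_one' (G := U) (x := ⟨v, hv⟩))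
        rw [hUc] at this
        exact this
      have hm : v ^ (1 - 11 * i : ℤ) ∈ zpowers x := by
        have : v ^ (1 - 11 * i : ℤ) = c' := by
          rw [show (1 - 11 * i : ℤ) = -(11 * i) + 1 by ring, zpow_add, zpow_one, zpow_neg,
            show v ^ (11 * i : ℤ) = (v ^ 11) ^ i by rw [zpow_mul]; norm_cast, inv_mul_eq_iff_eq_mul]
          exact hvac.symm
        rw [this]; exact hc'
      have hco : IsCoprime (1 - 11 * i : ℤ) ((1331 : ℕ) : ℤ) := by
        have : IsCoprime (1 - 11 * i : ℤ) (11 : ℤ) := ⟨1, i, by ring⟩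
        have := this.pow_right (n := 3)
        norm_num at this ⊢
        exact this
      obtain ⟨p', q', hpq⟩ := hco
      refine hvn ?_
      have e : v = (v ^ (1 - 11 * i : ℤ)) ^ p' * (v ^ ((1331 : ℕ) : ℤ)) ^ q' := by
        rw [← zpow_mul, ← zpow_mul, ← zpow_add, mul_comm (1 - 11 * i : ℤ) p', mul_comm ((1331 : ℕ) : ℤ) q', hpq,
          zpow_one]
      rw [e, zpow_natCast, hv1331, one_zpow, mul_one]
      exact zpow_mem hm _
    have hAB' : A < B := lt_of_le_of_ne hAB fun e =>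
      hvA (e ▸ (le_sup_right : zpowers v ≤ B) (mem_zpowers v))
    obtain ⟨i, -, hi⟩ := (Nat.dvd_prime_pow (by norm_num : Nat.Prime 11)).1
      (show Nat.card B ∣ 11 ^ 3 by rw [show 11 ^ 3 = 1331 by norm_num, ← hUc]; exact Subgroup.card_dvd_of_le hBU')
    obtain ⟨j, -, hj⟩ := (Nat.dvd_prime_pow (by norm_num : Nat.Prime 11)).1
      (show Nat.card A ∣ 11 ^ 3 by rw [show 11 ^ 3 = 1331 by norm_num, ← hUc]; exact Subgroup.card_dvd_of_le (hAB.trans hBU'))
    have h1 := CfsgLib.Solvable.card_lt_of_lt hxA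
    have h2 := CfsgLib.Solvable.card_lt_of_lt hAB'
    rw [Nat.card_zpowers, hxo, hj] at h1
    rw [hj, hi] at h2
    have hij := (Nat.pow_lt_pow_iff_right (by norm_num : 1 < 11)).1 h2
    have hj1 : 1 < j := (Nat.pow_lt_pow_iff_right (by norm_num : 1 < 11)).1 (by rwa [pow_one])
    rw [eq_of_le_of_card_ge hBU' (by
      rw [hUc, hi, show (1331 : ℕ) = 11 ^ 3 by norm_num]; exact Nat.pow_le_pow_right (by norm_num) (by omega))]
    exact hw
  have hfix : z * v ^ 11 * z⁻¹ = v ^ 11 := by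
    obtain ⟨i, hi⟩ := mem_zpowers_iff.1 hvx
    rw [← hi, ((show Commute z x from (mem_cH.1 hx.1).symm).zpow_right i).eq, mul_inv_cancel_right]
  have hinv : z * v ^ 11 * z⁻¹ = (v ^ 11)⁻¹ := by rw [← conj_pow, hzv, inv_pow]
  have hsq : (v ^ 11) ^ 2 = 1 := by rw [pow_two]; exact eq_inv_iff_mul_eq_one.1 (hfix.symm.trans hinv)
  have hv11 : v ^ 11 = 1 := by
    have h11 := Subgroup.orderOf_dvd_natCard _ hvx
    rw [Nat.card_zpowers, hxo] at h11
    exact orderOf_eq_one_iff.1 (Nat.dvd_one.1 (by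
      rw [show 1 = Nat.gcd 11 2 from rfl]; exact Nat.dvd_gcd h11 (orderOf_dvd_of_pow_eq_one hsq)))
  have hc11 : c ^ 11 = 1 := by
    have := congrArg Subtype.val (pow_card_eq_one' (G := zpowers x) (x := ⟨c, hc⟩))
    rw [Nat.card_zpowers, hxo] at this
    exact this
  rw [(hcomm v hv c hc).symm.mul_pow, hc11, hv11, one_mul]

/-- The only involutions centralising `x` are conjugates of `z` under `C(x)`. -/
theorem invol_cent_x {u : G} (hu : u ∈ centralizer ({x} : Set G)) (hu2 : orderOf u = 2) :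
    ∃ c ∈ centralizer ({x} : Set G), c * u * c⁻¹ = z := by
  have hJ := hI.type
  haveI : Fact (Nat.Prime 2) := ⟨Nat.prime_two⟩
  obtain ⟨U, -, hCc, -⟩ := exists_sylow_x hI hx hxo
  set C := centralizer ({x} : Set G)
  set B := cE z ⊓ centralizer ({x} : Set G)
  have hBC : B ≤ C := inf_le_right
  have hBc : Nat.card (B.subgroupOf C) = 8 := by
    rw [Nat.card_congr (Subgroup.subgroupOfEquivOfLe hBC).toEquiv, card_fixE hJ hx hxo]
  have hi : ¬ 2 ∣ (B.subgroupOf C).index := by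
    have := (B.subgroupOf C).card_mul_index
    rw [hBc, hCc] at this
    omega
  let S : Sylow 2 C := (IsPGroup.of_card (n := 3) (by rw [hBc]; norm_num)).toSylow hi
  obtain ⟨T, hT⟩ := (IsPGroup.of_card (p := 2) (G := zpowers (⟨u, hu⟩ : C)) (n := 1)
    (by rw [Nat.card_zpowers, Subgroup.orderOf_mk, hu2, pow_one])).exists_le_sylow
  obtain ⟨c, hc⟩ := MulAction.exists_smul_eq C T S
  refine ⟨c, c.2, ?_⟩
  have hm : c * (⟨u, hu⟩ : C) * c⁻¹ ∈ (S : Subgroup C) := by
    rw [← hc, Sylow.coe_subgroup_smul]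
    exact ⟨_, hT (mem_zpowers _), rfl⟩
  have hm' : (c : G) * u * (c : G)⁻¹ ∈ B := mem_subgroupOf.1 hm
  have hsq : ((c : G) * u * (c : G)⁻¹) * ((c : G) * u * (c : G)⁻¹) = 1 := by
    rw [show ((c : G) * u * (c : G)⁻¹) * ((c : G) * u * (c : G)⁻¹) = (c : G) * (u * u) * (c : G)⁻¹ by group,
      ← pow_two, ← hu2, pow_orderOf_eq_one]
    group
  refine (CfsgLib.J4SylEleven.invol_eq hJ hx hxo ⟨E_le_H hm'.1, hm'.2⟩ hsq).resolve_left fun e => ?_
  rw [conj_eq_one_iff] at e
  rw [e, orderOf_one] at hu2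
  norm_num at hu2

/-- The normaliser of `⟨x⟩` is `C(x) N_H(⟨x⟩)`, of order `2^4 · 3 · 5 · 11^3`. -/
theorem normalizer_x : Nat.card (normalizer ((zpowers x : Subgroup G) : Set G)) = 319440 ∧
    ∀ g ∈ normalizer ((zpowers x : Subgroup G) : Set G), ∃ c ∈ centralizer ({x} : Set G),
      ∃ h ∈ cH z ⊓ normalizer ((zpowers x : Subgroup G) : Set G), g = c * h := by
  have hJ := hI.type
  obtain ⟨U, -, hCc, -⟩ := exists_sylow_x hI hx hxo
  set C := centralizer ({x} : Set G)
  set N := normalizer ((zpowers x : Subgroup G) : Set G)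
  have hCN : C ≤ N := (CfsgLib.J4Large.cent_zpowers x).ge.trans (centralizer_le_normalizer _)
  have hdec : ∀ g ∈ N, ∃ c ∈ C, ∃ h ∈ cH z ⊓ N, g = c * h := by
    intro g hg
    have hgx := mem_norm_zpowers.1 hg
    have hu : g * z * g⁻¹ ∈ C := by
      have h1 : Commute (g * z * g⁻¹) (g * x * g⁻¹) := by
        show _ * _ = _ * _
        calc g * z * g⁻¹ * (g * x * g⁻¹) = g * (z * x) * g⁻¹ := by group
          _ = g * (x * z) * g⁻¹ := by rw [(mem_cH.1 hx.1).symm]
          _ = _ := by group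
      obtain ⟨i, hi⟩ := mem_zpowers_iff.1 (hgx.ge (mem_zpowers x))
      rw [mem_centralizer_singleton_iff, ← hi]
      exact (h1.zpow_right i).eq
    obtain ⟨c, hc, hcu⟩ := invol_cent_x hI hx hxo hu (by rw [orderOf_conj7, orderOf_z hJ])
    refine ⟨c⁻¹, inv_mem hc, c * g, ⟨mem_cH.2 ?_, mul_mem (hCN hc) hg⟩, by group⟩
    calc c * g * z = c * (g * z * g⁻¹) * c⁻¹ * (c * g) := by group
      _ = z * (c * g) := by rw [hcu]
  refine ⟨?_, hdec⟩
  have hn : cH z ⊓ N ≤ normalizer (C : Set G) := by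
    intro h hh
    rw [Subgroup.mem_normalizer_iff_map_conj_eq]
    show C.map (MulAut.conj h).toMonoidHom = C
    rw [CfsgLib.J4Large.map_centralizer, ← CfsgLib.J4Large.cent_zpowers (h * x * h⁻¹),
      mem_norm_zpowers.1 hh.2]
    exact CfsgLib.J4Large.cent_zpowers x
  have heq : (cH z ⊓ N) ⊔ C = N := by
    refine le_antisymm (sup_le inf_le_right hCN) fun g hg => ?_
    obtain ⟨c, hc, h, hh, rfl⟩ := hdec g hg
    exact mul_mem (mem_sup_right hc) (mem_sup_left hh)
  have hinf : cH z ⊓ N ⊓ C = cH z ⊓ C := by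
    rw [inf_assoc, inf_eq_right.2 hCN]
  have h := CfsgLib.Solvable.card_sup_mul_card_inf hn
  rw [heq, hinf, (card_cent_norm hJ hx hxo).2, (card_cent_norm hJ hx hxo).1, hCc] at h
  omega

end CfsgLib.J4SylEleven
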