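import Cfsg.Agent.J4Seven.HSide
import Cfsg.Agent.J4SylEleven.AutEleven

/-!
The centraliser and normaliser, in the centraliser of the involution, of an element of order eleven.
-/

set_option autoImplicit false
set_option linter.style.haveILetI false

namespace CfsgLib.J4SylEleven

open Cfsg CfsgLib.J4Local Subgroup
open CfsgLib.J4Seven (card_H A_inf_E mem_norm_zpowers orderOf_conj7)

variable {G : Type*} [Group G] [Finite G] {z : G} {P : Subgroup G}

theorem exists_eleven_C (hJ : IsOfJankoFourTypeWith z P) : ∃ x ∈ cC z P, orderOf x = 11 := by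
  haveI : Fact (Nat.Prime 11) := ⟨by norm_num⟩
  obtain ⟨d, hd⟩ := exists_prime_orderOf_dvd_card' (G := cC z P) 11 (by rw [card_C hJ]; norm_num)
  exact ⟨d, d.2, by rwa [Subgroup.orderOf_coe]⟩

theorem z_sq (hJ : IsOfJankoFourTypeWith z P) : z * z = 1 := by
  rw [← pow_two, ← orderOf_z hJ, pow_orderOf_eq_one]

/-- All subgroups of order eleven of the centraliser of the involution are conjugate in it. -/
theorem conj_eleven (hJ : IsOfJankoFourTypeWith z P) {x y : G} (hx : x ∈ cH z) (hxo : orderOf x = 11)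
    (hy : y ∈ cH z) (hyo : orderOf y = 11) : ∃ h ∈ cH z, h * y * h⁻¹ ∈ zpowers x := by
  haveI : Fact (Nat.Prime 11) := ⟨by norm_num⟩
  have hle : zpowers x ≤ cH z := zpowers_le.2 hx
  have hle' : zpowers y ≤ cH z := zpowers_le.2 hy
  have hc : Nat.card ↥((zpowers x).subgroupOf (cH z)) = 11 := by
    rw [Nat.card_congr (Subgroup.subgroupOfEquivOfLe hle).toEquiv, Nat.card_zpowers, hxo]
  have hi : ¬ 11 ∣ ((zpowers x).subgroupOf (cH z)).index := by
    have := ((zpowers x).subgroupOf (cH z)).card_mul_index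
    rw [hc, card_H hJ] at this
    omega
  let T : Sylow 11 ↥(cH z) := (IsPGroup.of_card (n := 1) (by rw [hc, pow_one])).toSylow hi
  obtain ⟨T', hT'⟩ := (IsPGroup.of_card (n := 1) (by
    rw [Nat.card_congr (Subgroup.subgroupOfEquivOfLe hle').toEquiv, Nat.card_zpowers, hyo, pow_one]) :
      IsPGroup 11 ↥((zpowers y).subgroupOf (cH z))).exists_le_sylow
  obtain ⟨h, hh⟩ := MulAction.exists_smul_eq ↥(cH z) T' T
  refine ⟨h, h.2, ?_⟩
  have hm : h * (⟨y, hy⟩ : ↥(cH z)) * h⁻¹ ∈ (T : Subgroup ↥(cH z)) := by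
    rw [← hh, Sylow.coe_subgroup_smul]
    exact ⟨⟨y, hy⟩, hT' (mem_subgroupOf.2 (mem_zpowers y)), rfl⟩
  exact mem_subgroupOf.1 hm

variable (hJ : IsOfJankoFourTypeWith z P) {x : G} (hx : x ∈ cC z P) (hxo : orderOf x = 11)

include hJ hx hxo

/-- The centraliser of `x` in `E` has order eight. -/
theorem card_fixE : Nat.card ↥(cE z ⊓ centralizer ({x} : Set G)) = 8 := by
  haveI : Fact (Nat.Prime 11) := ⟨by norm_num⟩
  obtain ⟨k, hk6, hk, hcase, hmod, -⟩ :=
    fixed_data hJ (q := 11) (by norm_num) hx.1 (by rw [← hxo, pow_orderOf_eq_one])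
  have h0 : (invSet z (cE z ⊓ centralizer ({x} : Set G))).ncard = 0 := by
    rw [Set.ncard_eq_zero, Set.eq_empty_iff_forall_notMem]
    rintro u ⟨hu, hu2, hu1, huz⟩
    rcases involution_centralizer_eleven hJ hx hxo hu.1
      (mem_centralizer_singleton_iff.1 hu.2).symm hu2 with h | h
    · exact hu1 h
    · exact huz h
  rw [h0] at hcase
  unfold Nat.ModEq at hmod
  interval_cases k
  all_goals (revert hcase hmod hk; norm_num)
  all_goals omega

/-- The subgroup `C_E(x)` is normalised by everything normalising `⟨x⟩` in the involution centraliser. -/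
theorem fixE_conj {h : G} (hh : h ∈ cH z) (hn : h * x * h⁻¹ ∈ zpowers x) {b : G}
    (hb : b ∈ cE z ⊓ centralizer ({x} : Set G)) : h * b * h⁻¹ ∈ cE z ⊓ centralizer ({x} : Set G) := by
  refine ⟨(Subgroup.mem_normalizer_iff.mp (H_le_normalizer_E hh) b).mp hb.1, mem_centralizer_singleton_iff.2 ?_⟩
  have heq : zpowers (h * x * h⁻¹) = zpowers x := eq_of_le_of_card_ge (zpowers_le.2 hn) (by
    rw [Nat.card_zpowers, Nat.card_zpowers, orderOf_conj7])
  obtain ⟨i, hi⟩ := mem_zpowers_iff.1 (heq.ge (mem_zpowers x))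
  have hc : Commute b x := mem_centralizer_singleton_iff.1 hb.2
  have h2 : Commute (h * b * h⁻¹) (h * x * h⁻¹) := by
    show _ * _ = _ * _
    calc h * b * h⁻¹ * (h * x * h⁻¹) = h * (b * x) * h⁻¹ := by group
      _ = h * (x * b) * h⁻¹ := by rw [hc.eq]
      _ = _ := by group
  rw [← hi]
  exact (h2.zpow_right i).eq

/-- An element of the involution centraliser normalising `⟨x⟩` is a product of an element of `N(P)` and
one of `C_E(x)`. -/
theorem decompose {h : G} (hh : h ∈ cH z) (hn : h * x * h⁻¹ ∈ zpowers x) :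
    ∃ a ∈ cA z P, ∃ e ∈ cE z ⊓ centralizer ({x} : Set G), h = a * e ∧ a * x * a⁻¹ = h * x * h⁻¹ := by
  have hAH : cA z P ≤ normalizer (cE z : Set G) := inf_le_left.trans H_le_normalizer_E
  rw [H_eq hJ] at hh
  obtain ⟨a, ha, e, he', rfl⟩ := (CfsgLib.Solvable.mem_sup_of_le_normalizer hAH).mp hh
  obtain ⟨i, hi⟩ := mem_zpowers_iff.1 hn
  have hdA : x ∈ cA z P := C_le_A hx
  set w := e * x * e⁻¹ * x⁻¹ with hw
  have hwE : w ∈ cE z := by
    have := (Subgroup.mem_normalizer_iff.mp (H_le_normalizer_E hx.1) e⁻¹).mp (inv_mem he')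
    simpa [hw, mul_assoc] using mul_mem he' this
  have he : e * x * e⁻¹ = a⁻¹ * x ^ i * a := by rw [hi]; group
  have hwA : w ∈ cA z P := by
    rw [hw, he]
    exact mul_mem (mul_mem (mul_mem (inv_mem ha) (zpow_mem hdA i)) ha) (inv_mem hdA)
  have hwz : w ∈ zpowers z := A_inf_E hJ ▸ Subgroup.mem_inf.2 ⟨hwA, hwE⟩
  have hzd : Commute z x := (show x * z = z * x from mem_cH.1 hx.1).symm
  have hwd : Commute w x := by obtain ⟨j, hj⟩ := hwz; rw [← hj]; exact hzd.zpow_left j
  have h11 : x ^ 11 = 1 := by rw [← hxo, pow_orderOf_eq_one]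
  have hw11 : w ^ 11 = 1 := by
    have h1 : (e * x * e⁻¹) ^ 11 = 1 := by rw [conj_pow, h11, mul_one, mul_inv_cancel]
    rw [show e * x * e⁻¹ = w * x by rw [hw, inv_mul_cancel_right], hwd.mul_pow, h11, mul_one] at h1
    exact h1
  have hw2 : orderOf w ∣ 2 := by
    have := Subgroup.orderOf_dvd_natCard _ hwz
    rwa [Nat.card_zpowers, orderOf_z hJ] at this
  have hw1 : w = 1 := by
    have : orderOf w ∣ Nat.gcd 2 11 := Nat.dvd_gcd hw2 (orderOf_dvd_of_pow_eq_one hw11)
    rw [← orderOf_eq_one_iff]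
    exact Nat.dvd_one.1 this
  have hex : e * x * e⁻¹ = x := mul_inv_eq_one.1 hw1
  refine ⟨a, ha, e, ⟨he', mem_centralizer_singleton_iff.2 (mul_inv_eq_iff_eq_mul.1 hex)⟩, rfl, ?_⟩
  calc a * x * a⁻¹ = a * (e * x * e⁻¹) * a⁻¹ := by rw [hex]
    _ = _ := by group

/-- The homomorphism onto the automorphism group at `x`. -/
theorem exists_image_eleven : ∃ f : ↥(cA z P) →* MulAut J4M22.M, ∃ y : J4M22.M, orderOf y = 11 ∧
    Function.Surjective f ∧ Nat.card f.ker = 6 ∧ f ⟨x, C_le_A hx⟩ = MulAut.conj y ∧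
    (∀ k ∈ f.ker, (k : G) ∈ cC z P) ∧
    (∀ (a : ↥(cA z P)) (i : ℤ), f a * MulAut.conj y * (f a)⁻¹ = MulAut.conj y ^ i →
      (a : G) * x * (a : G)⁻¹ = x ^ i) ∧
    ∀ a : ↥(cA z P), (a : G) ∈ cC z P → ∃ m : J4M22.M, f a = MulAut.conj m := by
  obtain ⟨f, hf, hker⟩ := exists_hom hJ
  have hk6 : Nat.card f.ker = 6 := by
    rw [hker, Nat.card_congr (Subgroup.subgroupOfEquivOfLe ((K_le_C hJ).trans C_le_A)).toEquiv, card_K hJ]
  haveI : Fact (Nat.Prime 11) := ⟨by norm_num⟩
  set d : ↥(cA z P) := ⟨x, C_le_A hx⟩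
  have h11 : d ^ 11 = 1 := Subtype.ext (by rw [SubgroupClass.coe_pow, ← hxo, pow_orderOf_eq_one]; rfl)
  have ho : orderOf (f d) = 11 := orderOf_eq_prime (by rw [← map_pow, h11, map_one]) fun e => by
    have := Subgroup.orderOf_dvd_natCard _ (MonoidHom.mem_ker.2 e)
    rw [Subgroup.orderOf_mk, hxo, hk6] at this
    norm_num at this
  obtain ⟨y, hy, hyf⟩ := exists_inner_eleven ho
  have hK : ∀ k ∈ f.ker, (k : G) ∈ cK z P := fun k hk => by rw [hker] at hk; exact hk
  have hKd : ∀ k ∈ f.ker, Commute k d := fun k hk => by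
    refine Subtype.ext ?_
    have hK' : cK z P ≤ centralizer ({x} : Set G) := by
      refine sup_le (zpowers_le.2 (mem_centralizer_singleton_iff.2 (mem_cH.1 hx.1).symm)) fun p hp => ?_
      exact mem_centralizer_singleton_iff.2 (Subgroup.mem_centralizer_iff.1 hx.2 p hp)
    exact mem_centralizer_singleton_iff.1 (hK' (hK k hk))
  refine ⟨f, y, hy, hf, hk6, hyf.symm, fun k hk => K_le_C hJ (hK k hk), fun a i e => ?_, fun a ha => ?_⟩
  · rw [hyf] at e
    set w := a * d * a⁻¹ * (d ^ i)⁻¹ with hw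
    have hwk : w ∈ f.ker := by
      rw [MonoidHom.mem_ker, hw, map_mul, map_mul, map_mul, map_inv, map_inv, map_zpow, e, mul_inv_cancel]
    have hc : Commute w (d ^ i) := (hKd w hwk).zpow_right i
    have e1 : a * d * a⁻¹ = w * d ^ i := by rw [hw, inv_mul_cancel_right]
    have h7 : w ^ 11 = 1 := by
      have h1 : (a * d * a⁻¹) ^ 11 = 1 := by rw [conj_pow, h11, mul_one, mul_inv_cancel]
      rw [e1, hc.mul_pow, ← zpow_natCast (d ^ i), ← zpow_mul, mul_comm, zpow_mul, zpow_natCast, h11, one_zpow,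
        mul_one] at h1
      exact h1
    have hn : w ^ Nat.card f.ker = 1 := by
      have := congrArg Subtype.val (pow_card_eq_one' (G := f.ker) (x := ⟨w, hwk⟩))
      simpa using this
    have hw1 : orderOf w ∣ 1 := by
      rw [show 1 = Nat.gcd 6 11 from rfl, ← hk6]
      exact Nat.dvd_gcd (orderOf_dvd_of_pow_eq_one hn) (orderOf_dvd_of_pow_eq_one h7)
    have := congrArg Subtype.val e1
    rw [orderOf_eq_one_iff.1 (Nat.dvd_one.1 hw1 : orderOf w = 1)] at this
    simpa using this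
  · have hkle : f.ker ≤ (cC z P).subgroupOf (cA z P) := fun k hk => K_le_C hJ (hK k hk)
    have hmap : ((cC z P).subgroupOf (cA z P)).map f = Cfsg.Inn ↥Cfsg.Spor.M22 := by
      refine eq_inn_of_index_two ?_
      rw [Subgroup.index_map, sup_eq_left.mpr hkle, index_C hJ, MonoidHom.range_eq_top.mpr hf,
        Subgroup.index_top]
    obtain ⟨m, hm⟩ := hmap.le (Subgroup.mem_map_of_mem f (mem_subgroupOf.2 ha))
    exact ⟨m, hm.symm⟩

/-- An element of `N(P)` centralising `x` centralises `P`. -/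
theorem fixA_le_C {a : G} (ha : a ∈ cA z P) (hax : a * x = x * a) : a ∈ cC z P := by
  obtain ⟨f, y, hy, hf, hk6, hfx, hkC, hlift, -⟩ := exists_image_eleven hJ hx hxo
  have hm : f ⟨a, ha⟩ ∈ zpowers (MulAut.conj y) := by
    rw [← centralizer_aut_eleven hy, mem_centralizer_singleton_iff, ← hfx, ← map_mul, ← map_mul]
    exact congrArg f (Subtype.ext hax)
  obtain ⟨i, hi⟩ := mem_zpowers_iff.1 hm
  have hk : (⟨a, ha⟩ : ↥(cA z P)) * ((⟨x, C_le_A hx⟩ : ↥(cA z P)) ^ i)⁻¹ ∈ f.ker := by
    rw [MonoidHom.mem_ker, map_mul, map_inv, map_zpow, hfx, hi, mul_inv_cancel]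
  have := hkC _ hk
  have h2 := mul_mem this (zpow_mem hx i)
  simpa using h2

/-- The centraliser of `x` in the involution centraliser has order 264 and the normaliser order 2640. -/
theorem card_cent_norm : Nat.card ↥(cH z ⊓ centralizer ({x} : Set G)) = 264 ∧
    Nat.card ↥(cH z ⊓ normalizer ((zpowers x : Subgroup G) : Set G)) = 2640 := by
  obtain ⟨f, y, hy, hf, hk6, hfx, hkC, hlift, -⟩ := exists_image_eleven hJ hx hxo
  set B := cE z ⊓ centralizer ({x} : Set G) with hB
  set CA := cA z P ⊓ centralizer ({x} : Set G)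
  set NA := cA z P ⊓ normalizer ((zpowers x : Subgroup G) : Set G)
  have hzA : z ∈ cA z P :=
    ⟨z_mem_H, Subgroup.centralizer_le_normalizer _ (z_mem_C_P hJ)⟩
  have hzx : z ∈ centralizer ({x} : Set G) := mem_centralizer_singleton_iff.2 (mem_cH.1 hx.1).symm
  have hnorm : ∀ g, g * x * g⁻¹ ∈ zpowers x ↔ g ∈ normalizer ((zpowers x : Subgroup G) : Set G) := by
    intro g
    rw [mem_norm_zpowers]
    refine ⟨fun h => eq_of_le_of_card_ge (zpowers_le.2 h) (by
      rw [Nat.card_zpowers, Nat.card_zpowers, orderOf_conj7]), fun h => h ▸ mem_zpowers _⟩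
  have hBn : ∀ g ∈ NA, g ∈ normalizer (B : Set G) := by
    intro g hg
    rw [Subgroup.mem_normalizer_iff_map_conj_eq]
    refine eq_of_le_of_card_ge ?_ (by rw [Subgroup.card_map_of_injective (MulAut.conj g).injective])
    rintro _ ⟨b, hb, rfl⟩
    exact fixE_conj hJ hx hxo hg.1.1 ((hnorm g).2 hg.2) hb
  have hCN : CA ≤ NA := inf_le_inf_left _ fun g hg => (hnorm g).1 (by
    rw [mem_centralizer_singleton_iff.1 hg, mul_inv_cancel_right]; exact mem_zpowers x)
  have hinf : ∀ K : Subgroup G, CA ≤ K → K ≤ cA z P → K ⊓ B = zpowers z := by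
    intro K h1 h2
    refine le_antisymm ((inf_le_inf h2 inf_le_left).trans (A_inf_E hJ).le) (zpowers_le.2 ?_)
    exact ⟨h1 ⟨hzA, hzx⟩, z_mem_E hJ, hzx⟩
  have hHC : cH z ⊓ centralizer ({x} : Set G) = CA ⊔ B := by
    refine le_antisymm (fun g hg => ?_) (sup_le (inf_le_inf_right _ inf_le_left) (inf_le_inf_right _ E_le_H))
    have hgx := mem_centralizer_singleton_iff.1 hg.2
    have hgg : g * x * g⁻¹ = x := by rw [hgx, mul_inv_cancel_right]
    obtain ⟨a, ha, e, he, rfl, hax⟩ := decompose hJ hx hxo hg.1 (by rw [hgg]; exact mem_zpowers x)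
    rw [hgg] at hax
    exact mul_mem_sup ⟨ha, mem_centralizer_singleton_iff.2 (mul_inv_eq_iff_eq_mul.1 hax)⟩ he
  have hHN : cH z ⊓ normalizer ((zpowers x : Subgroup G) : Set G) = NA ⊔ B := by
    refine le_antisymm (fun g hg => ?_) (sup_le (inf_le_inf_right _ inf_le_left) ?_)
    · obtain ⟨a, ha, e, he, rfl, hax⟩ := decompose hJ hx hxo hg.1 ((hnorm g).2 hg.2)
      exact mul_mem_sup ⟨ha, (hnorm a).1 (hax ▸ (hnorm _).2 hg.2)⟩ he
    · exact fun b hb => ⟨E_le_H hb.1, (hnorm b).1 (by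
        rw [mem_centralizer_singleton_iff.1 hb.2, mul_inv_cancel_right]; exact mem_zpowers x)⟩
  -- orders inside `N(P)`
  haveI : Finite (MulAut J4M22.M) := Finite.of_injective _ DFunLike.coe_injective
  have hcomap : ∀ Q : Subgroup (MulAut J4M22.M), Nat.card ↥(Q.comap f) = 6 * Nat.card Q := by
    intro Q
    have h1 := (Q.comap f).card_mul_index
    have h2 := Q.card_mul_index
    rw [Subgroup.index_comap_of_surjective _ hf, card_A hJ] at h1
    rw [show Nat.card (MulAut J4M22.M) = 887040 from card_aut_m22] at h2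
    have : 0 < Q.index := Nat.pos_of_ne_zero Subgroup.index_ne_zero_of_finite
    refine Nat.eq_of_mul_eq_mul_right this ?_
    rw [h1, mul_assoc, h2]
  have hCA : Nat.card CA = 66 := by
    have heq : CA = ((centralizer ({MulAut.conj y} : Set (MulAut J4M22.M))).comap f).map (cA z P).subtype := by
      ext g
      constructor
      · rintro ⟨hgA, hgx⟩
        refine ⟨⟨g, hgA⟩, ?_, rfl⟩
        rw [SetLike.mem_coe, Subgroup.mem_comap, mem_centralizer_singleton_iff, ← hfx, ← map_mul, ← map_mul]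
        exact congrArg f (Subtype.ext (mem_centralizer_singleton_iff.1 hgx))
      · rintro ⟨a, ha, rfl⟩
        rw [SetLike.mem_coe, Subgroup.mem_comap, mem_centralizer_singleton_iff] at ha
        refine ⟨a.2, mem_centralizer_singleton_iff.2 ?_⟩
        have := hlift a 1 (by rw [zpow_one, ha, mul_inv_cancel_right])
        rw [zpow_one] at this
        exact mul_inv_eq_iff_eq_mul.1 this
    rw [heq, Subgroup.card_map_of_injective (cA z P).subtype_injective, hcomap, centralizer_aut_eleven hy,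
      Nat.card_zpowers, CfsgLib.J4Seven.orderOf_conjAut, hy]
  have hNA : Nat.card NA = 660 := by
    have heq : NA = ((normalizer ((zpowers (MulAut.conj y) : Subgroup (MulAut J4M22.M)) :
        Set (MulAut J4M22.M))).comap f).map (cA z P).subtype := by
      ext g
      constructor
      · rintro ⟨hgA, hgx⟩
        refine ⟨⟨g, hgA⟩, ?_, rfl⟩
        rw [SetLike.mem_coe, Subgroup.mem_comap, mem_norm_zpowers, ← hfx, ← map_inv, ← map_mul, ← map_mul,
          ← MonoidHom.map_zpowers, ← MonoidHom.map_zpowers]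
        congr 1
        refine Subgroup.map_injective (cA z P).subtype_injective ?_
        rw [MonoidHom.map_zpowers, MonoidHom.map_zpowers]
        exact mem_norm_zpowers.1 hgx
      · rintro ⟨a, ha, rfl⟩
        rw [SetLike.mem_coe, Subgroup.mem_comap, mem_norm_zpowers] at ha
        obtain ⟨i, hi⟩ := mem_zpowers_iff.1 (ha.le (mem_zpowers _))
        refine ⟨a.2, (hnorm _).1 ?_⟩
        show (a : G) * x * (a : G)⁻¹ ∈ _
        rw [hlift a i hi.symm]
        exact zpow_mem (mem_zpowers x) i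
    rw [heq, Subgroup.card_map_of_injective (cA z P).subtype_injective, hcomap, (normalizer_aut_eleven hy).1]
  refine ⟨?_, ?_⟩
  · have h := CfsgLib.Solvable.card_sup_mul_card_inf (A := CA) (K := B) fun g hg => hBn g (hCN hg)
    rw [← hHC, hinf CA le_rfl inf_le_left, hCA, card_fixE hJ hx hxo, Nat.card_zpowers, orderOf_z hJ] at h
    omega
  · have h := CfsgLib.Solvable.card_sup_mul_card_inf (A := NA) (K := B) hBn
    rw [← hHN, hinf NA hCN inf_le_left, hNA, card_fixE hJ hx hxo, Nat.card_zpowers, orderOf_z hJ] at h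
    omega

/-- The only involution of the centraliser of `x` in the involution centraliser is `z`. -/
theorem invol_eq {u : G} (hu : u ∈ cH z ⊓ centralizer ({x} : Set G)) (hu2 : u * u = 1) : u = 1 ∨ u = z := by
  set D := cH z ⊓ centralizer ({x} : Set G)
  set B := cE z ⊓ centralizer ({x} : Set G)
  have hBD : B ≤ D := inf_le_inf_right _ E_le_H
  haveI : (B.subgroupOf D).Normal := ⟨fun b hb g => by
    rw [mem_subgroupOf] at hb ⊢
    refine fixE_conj hJ hx hxo g.2.1 ?_ hb
    rw [mem_centralizer_singleton_iff.1 g.2.2, mul_inv_cancel_right]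
    exact mem_zpowers x⟩
  have hidx : (B.subgroupOf D).index = 33 := by
    have h := (B.subgroupOf D).card_mul_index
    rw [Nat.card_congr (Subgroup.subgroupOfEquivOfLe hBD).toEquiv, card_fixE hJ hx hxo,
      (card_cent_norm hJ hx hxo).1] at h
    omega
  have h33 := (B.subgroupOf D).pow_index_mem ⟨u, hu⟩
  rw [hidx, mem_subgroupOf] at h33
  have e : u ^ 33 = u := by
    rw [show 33 = 2 * 16 + 1 by norm_num, pow_succ, pow_mul, pow_two, hu2, one_pow, one_mul]
  have hub : u ∈ B := by simpa [e] using h33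
  exact involution_centralizer_eleven hJ hx hxo hub.1 (mem_centralizer_singleton_iff.1 hub.2).symm hu2

/-- Elements of the centraliser of `x` normalising `P` centralise it. -/
theorem fix_normP {g : G} (hg : g ∈ cH z ⊓ centralizer ({x} : Set G)) (hgP : g ∈ normalizer (P : Set G)) :
    g ∈ centralizer (P : Set G) :=
  (fixA_le_C hJ hx hxo ⟨hg.1, hgP⟩ (mem_centralizer_singleton_iff.1 hg.2)).2

/-- An element inverting `x` is an element inverting `P` times one of `C_E(x)`. -/
theorem inverting {h : G} (hh : h ∈ cH z) (hi : h * x * h⁻¹ = x⁻¹) :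
    ∃ a ∈ cA z P, ∃ e ∈ cE z ⊓ centralizer ({x} : Set G), h = a * e ∧ ∀ p ∈ P, a * p * a⁻¹ = p⁻¹ := by
  obtain ⟨a, ha, e, he, rfl, hax⟩ := decompose hJ hx hxo hh (by rw [hi]; exact inv_mem (mem_zpowers x))
  rw [hi] at hax
  refine ⟨a, ha, e, he, rfl, fun p hp => ?_⟩
  obtain ⟨f, y, hy, hf, hk6, hfx, hkC, hlift, hin⟩ := exists_image_eleven hJ hx hxo
  have haC : a ∉ cC z P := by
    intro hc
    obtain ⟨m, hm⟩ := hin ⟨a, ha⟩ hc
    refine (normalizer_aut_eleven hy).2 m ?_
    rw [← hm, ← hfx, ← map_inv, ← map_mul, ← map_mul, ← map_inv]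
    exact congrArg f (Subtype.ext hax)
  -- a group of order three has only one nontrivial automorphism
  haveI : Fact (Nat.Prime 3) := ⟨Nat.prime_three⟩
  have hap : a * p * a⁻¹ ∈ P := (Subgroup.mem_normalizer_iff.mp ha.2 p).mp hp
  by_cases hp1 : p = 1
  · subst hp1; simp
  have hPp : zpowers p = P := eq_of_le_of_card_ge (zpowers_le.2 hp) (by
    rw [card_P hJ, Nat.card_zpowers]
    have h1 := Subgroup.orderOf_dvd_natCard P hp
    rw [card_P hJ] at h1
    rcases (Nat.dvd_prime Nat.prime_three).1 h1 with e | e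
    · exact absurd (orderOf_eq_one_iff.1 e) hp1
    · rw [e])
  have h3 : p ^ (3 : ℤ) = 1 := by
    have := congrArg Subtype.val (pow_card_eq_one' (G := ↥P) (x := ⟨p, hp⟩))
    rw [card_P hJ] at this
    simpa using this
  obtain ⟨i, hip⟩ := mem_zpowers_iff.1 (hPp.ge hap)
  have hi3 : p ^ i = p ^ (i % 3) := by
    conv_lhs => rw [← Int.mul_ediv_add_emod i 3, zpow_add, zpow_mul, h3, one_zpow, one_mul]
  have : i % 3 = 0 ∨ i % 3 = 1 ∨ i % 3 = 2 := by omega
  rcases this with h | h | h <;> rw [hi3, h] at hip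
  · rw [zpow_zero] at hip
    exact absurd (conj_eq_one_iff.1 hip.symm) hp1
  · rw [zpow_one] at hip
    refine absurd ⟨ha.1, ?_⟩ haC
    rw [← hPp]
    show a ∈ centralizer ((zpowers p : Subgroup G) : Set G)
    rw [Subgroup.zpowers_eq_closure, Subgroup.centralizer_closure, mem_centralizer_singleton_iff]
    exact mul_inv_eq_iff_eq_mul.1 hip.symm
  · rw [← hip]
    refine eq_inv_of_mul_eq_one_left ?_
    nth_rw 2 [← zpow_one p]
    rw [← zpow_add]
    exact h3

end CfsgLib.J4SylEleven
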