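import Cfsg.Agent.J4SylEleven.Abelian.Local
import Cfsg.Agent.J4SylEleven.GL
import Cfsg.Agent.LocalB.QdSylow

/-!
The Sylow 11-subgroups of a group of Janko-four type, once the abelian case is excluded.
-/

set_option autoImplicit false
set_option linter.style.haveILetI false
set_option linter.unusedSectionVars false

namespace CfsgLib.J4SylEleven

open Cfsg CfsgLib.J4Local Subgroup
open CfsgLib.J4Seven (mem_norm_zpowers)

variable {G : Type*} [Group G] [Finite G] {z : G} {P : Subgroup G}

/-- The structure of the Sylow 11-subgroups when the base subgroup is not abelian. -/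
theorem structure_of (hI : CfsgLib.J4Large.Inputs z P)
    (hna : ∀ (x : G) (U : Subgroup G), Base z P x U → ¬ ∀ u ∈ U, ∀ v ∈ U, u * v = v * u) (S : Sylow 11 G) :
    IsExtraspecial 11 ↥(S : Subgroup G) ∧ Nat.card ↥(S : Subgroup G) = 11 ^ 3 ∧
      Monoid.exponent ↥(S : Subgroup G) = 11 ∧
      Nat.card ↥(normalizer ((S : Subgroup G) : Set G)) = 2 ^ 4 * 3 * 5 * 11 ^ 3 ∧
      ∃ K : Subgroup G, K ≤ normalizer ((S : Subgroup G) : Set G) ∧ Nonempty (↥K ≃* GL (Fin 2) (ZMod 3)) := by
  haveI : Fact (Nat.Prime 11) := ⟨by norm_num⟩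
  obtain ⟨x, U, B⟩ := exists_base hI
  have hne : ¬ ∀ a b : ↥U, a * b = b * a := fun h => hna x U B fun u hu v hv =>
    congrArg Subtype.val (h ⟨u, hu⟩ ⟨v, hv⟩)
  have hexp : ∀ a : ↥U, a ^ 11 = 1 := fun a => Subtype.ext (B.exp a a.2)
  have hext : IsExtraspecial 11 ↥U :=
    CfsgLib.LocalB.isExtraspecial_of_cube hexp (by rw [B.cardU]; norm_num) hne
  -- the normaliser
  have hcen : (center ↥U).map U.subtype = zpowers x := by
    have hxc : x ∈ (center ↥U).map U.subtype :=
      ⟨⟨x, B.mem⟩, mem_center_iff.2 fun a => Subtype.ext (B.comm a.2 (mem_zpowers x)).eq, rfl⟩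
    refine (eq_of_le_of_card_ge (zpowers_le.2 hxc) ?_).symm
    · rw [Subgroup.card_map_of_injective U.subtype_injective, hext.2, Nat.card_zpowers, B.ord]
  have hN : normalizer (U : Set G) = normalizer ((zpowers x : Subgroup G) : Set G) := by
    refine le_antisymm (fun g hg => ?_) B.norm_le
    refine B.norm_of_conj ?_
    obtain ⟨a, ha, hax⟩ := hcen.ge (mem_zpowers x)
    have hgU : g * x * g⁻¹ ∈ U := (Subgroup.mem_normalizer_iff.1 hg x).1 B.mem
    refine hcen.le ⟨⟨g * x * g⁻¹, hgU⟩, mem_center_iff.2 fun b => Subtype.ext ?_, rfl⟩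
    have hb : g⁻¹ * (b : G) * g⁻¹⁻¹ ∈ U := (Subgroup.mem_normalizer_iff.1 (inv_mem hg) b).1 b.2
    rw [inv_inv] at hb
    have hc : g⁻¹ * (b : G) * g * x = x * (g⁻¹ * (b : G) * g) := (B.comm hb (mem_zpowers x)).eq
    show (b : G) * (g * x * g⁻¹) = g * x * g⁻¹ * b
    calc (b : G) * (g * x * g⁻¹) = g * (g⁻¹ * b * g * x) * g⁻¹ := by group
      _ = g * (x * (g⁻¹ * b * g)) * g⁻¹ := by rw [hc]
      _ = g * x * g⁻¹ * b := by group
  obtain ⟨K, hK, ⟨eK⟩⟩ := exists_gl B
  -- transport to any Sylow subgroup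
  have hfac : (Nat.card G).factorization 11 = 3 := by
    rw [order_eq hI, show order = 11 ^ 3 * (order / 11 ^ 3) by norm_num [order],
      Nat.factorization_mul (by norm_num) (by norm_num [order]), Finsupp.add_apply,
      Nat.Prime.factorization_pow (by norm_num), Finsupp.single_eq_same,
      Nat.factorization_eq_zero_of_not_dvd (by norm_num [order]), add_zero]
  let T : Sylow 11 G := Sylow.ofCard U (by rw [hfac, B.cardU]; norm_num)
  obtain ⟨g, hg⟩ := MulAction.exists_smul_eq G T S
  have hS : (S : Subgroup G) = U.map (MulAut.conj g).toMonoidHom := by rw [← hg]; rfl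
  have e : ↥U ≃* ↥(S : Subgroup G) :=
    (U.equivMapOfInjective _ (MulAut.conj g).injective).trans (MulEquiv.subgroupCongr hS.symm)
  have hcard : Nat.card ↥(S : Subgroup G) = 11 ^ 3 := by rw [← Nat.card_congr e.toEquiv, B.cardU]; norm_num
  have hexpS : ∀ a : ↥(S : Subgroup G), a ^ 11 = 1 := fun a => e.symm.injective (by rw [map_pow, hexp, map_one])
  have hNS : normalizer ((S : Subgroup G) : Set G) =
      (normalizer (U : Set G)).map (MulAut.conj g).toMonoidHom := by
    rw [hS, Subgroup.map_equiv_normalizer_eq]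
  refine ⟨CfsgLib.LocalB.isExtraspecial_of_cube hexpS hcard fun h => hne fun a b => e.injective
      (by rw [map_mul, map_mul, h]), hcard,
    CfsgLib.LocalB.exponent_eq_prime hexpS (by rw [hcard]; norm_num), ?_, ?_⟩
  · rw [hNS, Subgroup.card_map_of_injective (MulAut.conj g).injective, hN,
      (normalizer_x hI B.memC B.ord).1]
    norm_num
  · refine ⟨K.map (MulAut.conj g).toMonoidHom, hNS ▸ Subgroup.map_mono ((hK.trans inf_le_right).trans hN.ge),
      ⟨(K.equivMapOfInjective _ (MulAut.conj g).injective).symm.trans eK⟩⟩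

end CfsgLib.J4SylEleven
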