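import Cfsg.Agent.J4SylEleven.CentX
import Cfsg.Agent.J4Local.Eleven.Fusion

/-!
The action of `N_H(⟨x⟩)` on the elements of the Sylow 11-subgroup inverted by `z`.
-/

set_option autoImplicit false
set_option linter.style.haveILetI false
set_option linter.unusedSectionVars false

namespace CfsgLib.J4SylEleven

open Cfsg CfsgLib.J4Local Subgroup
open CfsgLib.J4Seven (mem_norm_zpowers orderOf_conj7)

variable {G : Type*} [Group G] [Finite G]

/-- The element `x` and the Sylow subgroup `U` of its centraliser. -/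
structure Base (z : G) (P : Subgroup G) (x : G) (U : Subgroup G) : Prop where
  inputs : CfsgLib.J4Large.Inputs z P
  memC : x ∈ cC z P
  ord : orderOf x = 11
  cardU : Nat.card U = 1331
  cardCent : Nat.card (centralizer ({x} : Set G)) = 31944
  le : U ≤ centralizer ({x} : Set G)
  mem : x ∈ U
  maximal : ∀ Q : Subgroup G, Q ≤ centralizer ({x} : Set G) → IsPGroup 11 Q → Q ≤ U
  exp : ∀ u ∈ U, u ^ 11 = 1
  split : ∀ u ∈ U, ∃ c ∈ zpowers x, ∃ v ∈ U, z * v * z⁻¹ = v⁻¹ ∧ u = c * v

theorem exists_base {z : G} {P : Subgroup G} (hI : CfsgLib.J4Large.Inputs z P) :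
    ∃ x U, Base z P x U := by
  obtain ⟨x, hx, hxo⟩ := exists_eleven_C hI.type
  obtain ⟨U, h1, h2, h3, h4, h5, h6, h7⟩ := exists_sylow_x hI hx hxo
  exact ⟨x, U, hI, hx, hxo, h1, h2, h3, h4, h5, h6, h7⟩

/-- The elements of `U` inverted by `z`. -/
def invPart (z : G) (U : Subgroup G) : Set G := {v | v ∈ U ∧ z * v * z⁻¹ = v⁻¹}

/-- The nontrivial elements of `U` inverted by `z`. -/
def invPart' (z : G) (U : Subgroup G) : Set G := {v | v ∈ invPart z U ∧ v ≠ 1}

namespace Base

variable {z : G} {P : Subgroup G} {x : G} {U : Subgroup G} (B : Base z P x U)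

include B

theorem type : IsOfJankoFourTypeWith z P := B.inputs.type

theorem zx : Commute z x := (mem_cH.1 B.memC.1).symm

theorem zz : z * z = 1 := z_sq B.type

theorem comm {u c : G} (hu : u ∈ U) (hc : c ∈ zpowers x) : Commute u c := by
  obtain ⟨i, rfl⟩ := mem_zpowers_iff.1 hc
  exact (show Commute u x from mem_centralizer_singleton_iff.1 (B.le hu)).zpow_right i

theorem orderOf_mem {u : G} (hu : u ∈ U) (h : u ≠ 1) : orderOf u = 11 := by
  haveI : Fact (Nat.Prime 11) := ⟨by norm_num⟩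
  exact orderOf_eq_prime (B.exp u hu) h

theorem eq_one_of_sq {u : G} (hu : u ∈ U) (h : u * u = 1) : u = 1 := by
  by_contra hne
  have := orderOf_dvd_of_pow_eq_one (show u ^ 2 = 1 by rw [pow_two, h])
  rw [B.orderOf_mem hu hne] at this
  norm_num at this

theorem z_fix {c : G} (hc : c ∈ zpowers x) : z * c * z⁻¹ = c := by
  obtain ⟨i, rfl⟩ := mem_zpowers_iff.1 hc
  rw [(B.zx.zpow_right i).eq, mul_inv_cancel_right]

/-- The decomposition over `⟨x⟩` is unique. -/
theorem split_unique {c c' v v' : G} (hc : c ∈ zpowers x) (hc' : c' ∈ zpowers x) (hv : v ∈ invPart z U)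
    (hv' : v' ∈ invPart z U) (h : c * v = c' * v') : c = c' ∧ v = v' := by
  set d := c'⁻¹ * c with hd
  have hdx : d ∈ zpowers x := mul_mem (inv_mem hc') hc
  have e1 : v' = d * v := by rw [hd, mul_assoc, h, inv_mul_cancel_left]
  have e2 : v'⁻¹ = d * v⁻¹ := by
    rw [← hv'.2, e1, show z * (d * v) * z⁻¹ = (z * d * z⁻¹) * (z * v * z⁻¹) by group, B.z_fix hdx, hv.2]
  have hdU : d ∈ U := (zpowers_le.2 B.mem) hdx
  have hd1 : d = 1 := by
    refine B.eq_one_of_sq hdU ?_
    have h3 : (d * v)⁻¹ = d * v⁻¹ := by rw [← e1, e2]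
    rw [mul_inv_rev, (B.comm (inv_mem hv.1) (inv_mem hdx)).eq] at h3
    calc d * d = d * (d * v⁻¹) * v := by group
      _ = d * (d⁻¹ * v⁻¹) * v := by rw [h3]
      _ = 1 := by group
  refine ⟨?_, by rw [e1, hd1, one_mul]⟩
  rw [hd, inv_mul_eq_one] at hd1
  exact hd1.symm

theorem mem_invPart_of_fix_zero {v : G} (hv : v ∈ invPart z U) (hx : v ∈ zpowers x) : v = 1 :=
  (B.split_unique hx (one_mem _) ⟨one_mem U, by group⟩ hv (by rw [mul_one, one_mul])).1

theorem ncard_invPart : (invPart z U).ncard = 121 := by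
  classical
  have e : ↥(zpowers x) × ↥(invPart z U) ≃ ↥U := by
    refine Equiv.ofBijective (fun p => ⟨p.1 * p.2, mul_mem ((zpowers_le.2 B.mem) p.1.2) p.2.2.1⟩) ⟨?_, ?_⟩
    · rintro ⟨c, v⟩ ⟨c', v'⟩ h
      obtain ⟨h1, h2⟩ := B.split_unique c.2 c'.2 v.2 v'.2 (congrArg Subtype.val h)
      exact Prod.ext (Subtype.ext h1) (Subtype.ext h2)
    · rintro ⟨u, hu⟩
      obtain ⟨c, hc, v, hv, hzv, rfl⟩ := B.split u hu
      exact ⟨(⟨c, hc⟩, ⟨v, hv, hzv⟩), rfl⟩
  have h := Nat.card_congr e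
  rw [Nat.card_prod, Nat.card_zpowers, B.ord, B.cardU, Nat.card_coe_set_eq] at h
  omega

theorem ncard_invPart' : (invPart' z U).ncard = 120 := by
  have h1 : (1 : G) ∈ invPart z U := ⟨one_mem U, by group⟩
  have e : invPart' z U = invPart z U \ {1} := by ext v; simp [invPart']
  rw [e, Set.ncard_sdiff (by simpa using h1), Set.ncard_singleton, B.ncard_invPart]

theorem U_le_norm : U ≤ normalizer ((zpowers x : Subgroup G) : Set G) :=
  B.le.trans ((CfsgLib.J4Large.cent_zpowers x).ge.trans (centralizer_le_normalizer _))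

/-- `U` is normalised by the normaliser of `⟨x⟩`. -/
theorem conj_mem_U {g : G} (hg : g ∈ normalizer ((zpowers x : Subgroup G) : Set G)) {u : G} (hu : u ∈ U) :
    g * u * g⁻¹ ∈ U := by
  refine B.maximal (U.map (MulAut.conj g).toMonoidHom) ?_
    ((IsPGroup.of_card (n := 3) (by rw [B.cardU]; norm_num) : IsPGroup 11 U).map _) ⟨u, hu, rfl⟩
  refine (Subgroup.map_mono B.le).trans (le_of_eq ?_)
  rw [CfsgLib.J4Large.map_centralizer, ← CfsgLib.J4Large.cent_zpowers (g * x * g⁻¹), mem_norm_zpowers.1 hg]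
  exact CfsgLib.J4Large.cent_zpowers x

theorem conj_mem_invPart {h : G} (hh : h ∈ cH z ⊓ normalizer ((zpowers x : Subgroup G) : Set G)) {v : G}
    (hv : v ∈ invPart' z U) : h * v * h⁻¹ ∈ invPart' z U := by
  refine ⟨⟨B.conj_mem_U hh.2 hv.1.1, ?_⟩, fun e => hv.2 (conj_eq_one_iff.1 e)⟩
  have hzh : z * h = h * z := (mem_cH.1 hh.1).symm
  calc z * (h * v * h⁻¹) * z⁻¹ = (z * h) * v * (z * h)⁻¹ := by group
    _ = h * (z * v * z⁻¹) * h⁻¹ := by rw [hzh]; group
    _ = _ := by rw [hv.1.2]; group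

theorem norm_of_conj {g : G} (h : g * x * g⁻¹ ∈ zpowers x) : g ∈ normalizer ((zpowers x : Subgroup G) : Set G) :=
  mem_norm_zpowers.2 (eq_of_le_of_card_ge (zpowers_le.2 h)
    (by rw [Nat.card_zpowers, Nat.card_zpowers, orderOf_conj7]))

/-- Elements of `C_H(x)` fixing a nontrivial inverted element are powers of `x`. -/
theorem fix_cent {v : G} (hv : v ∈ invPart' z U) :
    cH z ⊓ centralizer ({x} : Set G) ⊓ centralizer ({v} : Set G) = zpowers x := by
  set D := cH z ⊓ centralizer ({x} : Set G) ⊓ centralizer ({v} : Set G) with hD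
  have hxD : zpowers x ≤ D := zpowers_le.2
    ⟨⟨B.memC.1, mem_centralizer_singleton_iff.2 rfl⟩,
      mem_centralizer_singleton_iff.2 (mem_centralizer_singleton_iff.1 (B.le hv.1.1)).symm⟩
  have hd : Nat.card D ∣ 264 := (card_cent_norm B.type B.memC B.ord).1 ▸ Subgroup.card_dvd_of_le inf_le_left
  have h2 : ¬ 2 ∣ Nat.card D := by
    intro h
    haveI : Fact (Nat.Prime 2) := ⟨Nat.prime_two⟩
    obtain ⟨r, hr⟩ := exists_prime_orderOf_dvd_card' (G := D) 2 h
    have hr1 : (r : G) * r = 1 := by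
      rw [← pow_two, ← SubgroupClass.coe_pow, ← hr, pow_orderOf_eq_one]; rfl
    rcases invol_eq B.type B.memC B.ord r.2.1 hr1 with e | e
    · rw [show r = 1 from Subtype.ext e, orderOf_one] at hr
      norm_num at hr
    · have hzv := mem_centralizer_singleton_iff.1 r.2.2
      rw [e] at hzv
      refine hv.2 (B.eq_one_of_sq hv.1.1 ?_)
      have := hv.1.2
      rw [hzv, mul_inv_cancel_right] at this
      exact eq_inv_iff_mul_eq_one.1 this
  have h3 : ¬ 3 ∣ Nat.card D := by
    intro h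
    haveI : Fact (Nat.Prime 3) := ⟨Nat.prime_three⟩
    obtain ⟨r, hr⟩ := exists_prime_orderOf_dvd_card' (G := D) 3 h
    rw [← Subgroup.orderOf_coe] at hr
    -- the subgroup `⟨x, v⟩` of order 121 centralises `r`
    set A := zpowers x ⊔ zpowers v
    have hAr : A ≤ centralizer ({(r : G)} : Set G) := sup_le
      (zpowers_le.2 (mem_centralizer_singleton_iff.2 (mem_centralizer_singleton_iff.1 r.2.1.2).symm))
      (zpowers_le.2 (mem_centralizer_singleton_iff.2 (mem_centralizer_singleton_iff.1 r.2.2).symm))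
    have hAU : A ≤ U := sup_le (zpowers_le.2 B.mem) (zpowers_le.2 hv.1.1)
    have hlt : zpowers x < A := lt_of_le_of_ne le_sup_left fun e => hv.2 (B.mem_invPart_of_fix_zero hv.1
      (e ▸ (le_sup_right : zpowers v ≤ A) (mem_zpowers v)))
    obtain ⟨i, -, hi⟩ := (Nat.dvd_prime_pow (by norm_num : Nat.Prime 11)).1
      (show Nat.card A ∣ 11 ^ 3 by
        rw [show 11 ^ 3 = 1331 by norm_num, ← B.cardU]; exact Subgroup.card_dvd_of_le hAU)
    have h11 := CfsgLib.Solvable.card_lt_of_lt hlt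
    rw [Nat.card_zpowers, B.ord, hi] at h11
    have hi2 : 2 ≤ i := by
      by_contra hh
      have := Nat.pow_le_pow_right (show 1 ≤ 11 by norm_num) (show i ≤ 1 by omega)
      omega
    have h121 := (pow_dvd_pow 11 hi2).trans (hi ▸ Subgroup.card_dvd_of_le hAr)
    rw [CfsgLib.J4Large.cent_three B.inputs hr] at h121
    norm_num at h121
  refine (eq_of_le_of_card_ge hxD ?_).symm
  rw [Nat.card_zpowers, B.ord]
  have hc : (Nat.card D).Coprime 24 := by
    rw [show 24 = 2 ^ 3 * 3 by norm_num]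
    exact Nat.Coprime.mul_right ((Nat.prime_two.coprime_iff_not_dvd.2 h2).symm.pow_right 3)
      (Nat.prime_three.coprime_iff_not_dvd.2 h3).symm
  exact Nat.le_of_dvd (by norm_num) (hc.dvd_of_dvd_mul_right (show Nat.card D ∣ 11 * 24 from hd))

/-- The stabilisers have order 22 and the action is transitive. -/
theorem stab_card_trans {v : G} (hv : v ∈ invPart' z U) :
    Nat.card ↥(cH z ⊓ normalizer ((zpowers x : Subgroup G) : Set G) ⊓ centralizer ({v} : Set G)) = 22 ∧
    ∀ w ∈ invPart' z U, ∃ h ∈ cH z ⊓ normalizer ((zpowers x : Subgroup G) : Set G), h * v * h⁻¹ = w := by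
  set NH := cH z ⊓ normalizer ((zpowers x : Subgroup G) : Set G) with hNH
  set S := NH ⊓ centralizer ({v} : Set G) with hS
  have hSN : S ≤ normalizer ((zpowers x : Subgroup G) : Set G) := inf_le_left.trans inf_le_right
  set f : ↥S →* MulAut ↥(zpowers x) :=
    (zpowers x).normalizerMonoidHom.comp (Subgroup.inclusion hSN)
  haveI : IsCyclic ↥(zpowers x) := isCyclic_of_prime_card (p := 11) (hp := ⟨by norm_num⟩)
    (by rw [Nat.card_zpowers, B.ord])
  have hker : f.ker.map S.subtype = zpowers x := by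
    refine Eq.trans ?_ (B.fix_cent hv)
    ext g
    constructor
    · rintro ⟨a, ha, rfl⟩
      have ha' := MonoidHom.mem_ker.1 ha
      rw [MonoidHom.comp_apply, ← MonoidHom.mem_ker, Subgroup.normalizerMonoidHom_ker, mem_subgroupOf,
        CfsgLib.J4Large.cent_zpowers] at ha'
      exact ⟨⟨a.2.1.1, ha'⟩, a.2.2⟩
    · intro hg
      have hgN : g ∈ normalizer ((zpowers x : Subgroup G) : Set G) :=
        B.norm_of_conj (by rw [mem_centralizer_singleton_iff.1 hg.1.2, mul_inv_cancel_right]; exact mem_zpowers x)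
      refine ⟨⟨g, ⟨hg.1.1, hgN⟩, hg.2⟩, ?_, rfl⟩
      show f _ = 1
      rw [MonoidHom.comp_apply, ← MonoidHom.mem_ker, Subgroup.normalizerMonoidHom_ker, mem_subgroupOf,
        CfsgLib.J4Large.cent_zpowers]
      exact hg.1.2
  have hkc : Nat.card f.ker = 11 := by
    rw [← Subgroup.card_map_of_injective S.subtype_injective, hker, Nat.card_zpowers, B.ord]
  have hr10 : Nat.card f.range ∣ 10 := by
    refine (Subgroup.card_subgroup_dvd_card _).trans ?_
    rw [IsCyclic.card_mulAut, Nat.card_zpowers, B.ord, Nat.totient_prime (by norm_num)]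
  have hScard : Nat.card S = 11 * Nat.card f.range := by
    rw [← f.ker.card_mul_index, hkc, Subgroup.index_ker]
  have h5 : ¬ 5 ∣ Nat.card f.range := fun h => by
    refine not_dvd_cent B.inputs (B.orderOf_mem hv.1.1 hv.2) (r := 5) (by simp) ?_
    exact (h.trans (Dvd.intro_left 11 hScard.symm)).trans (Subgroup.card_dvd_of_le inf_le_right)
  have hS22 : Nat.card S ∣ 22 := by
    rw [hScard, show 22 = 11 * 2 from rfl]
    refine mul_dvd_mul_left 11 (Nat.Coprime.dvd_of_dvd_mul_right ?_ (show Nat.card f.range ∣ 2 * 5 from hr10))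
    exact ((show Nat.Prime 5 by norm_num).coprime_iff_not_dvd.2 h5).symm
  have horb := CfsgLib.J4Eleven.card_mul_card_centralizer NH v
  rw [← hS, (card_cent_norm B.type B.memC B.ord).2] at horb
  have hsub : {b : G | CfsgLib.J4Eleven.MovedBy NH v b} ⊆ invPart' z U := by
    rintro _ ⟨h, hh, rfl⟩
    exact B.conj_mem_invPart hh hv
  have hle := Set.ncard_le_ncard hsub (Set.toFinite _)
  rw [B.ncard_invPart'] at hle
  have hS' : Nat.card S = 22 := by
    have hle22 := Nat.le_of_dvd (by norm_num) hS22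
    by_contra hne
    have : Nat.card S ≤ 21 := by omega
    have := Nat.mul_le_mul hle this
    omega
  refine ⟨hS', fun w hw => ?_⟩
  have heq : {b : G | CfsgLib.J4Eleven.MovedBy NH v b} = invPart' z U :=
    Set.eq_of_subset_of_ncard_le hsub (by rw [B.ncard_invPart']; rw [hS'] at horb; omega) (Set.toFinite _)
  rw [← heq] at hw
  exact hw

/-- An involution of `N_H(⟨x⟩)` fixing `v` inverts `x`. -/
theorem exists_refl {v : G} (hv : v ∈ invPart' z U) :
    ∃ s ∈ cH z, orderOf s = 2 ∧ s * x * s⁻¹ = x⁻¹ ∧ s * v = v * s := by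
  haveI : Fact (Nat.Prime 2) := ⟨Nat.prime_two⟩
  obtain ⟨r, hr⟩ := exists_prime_orderOf_dvd_card'
    (G := ↥(cH z ⊓ normalizer ((zpowers x : Subgroup G) : Set G) ⊓ centralizer ({v} : Set G))) 2
    (by rw [(B.stab_card_trans hv).1]; norm_num)
  rw [← Subgroup.orderOf_coe] at hr
  refine ⟨r, r.2.1.1, hr, ?_, mem_centralizer_singleton_iff.1 r.2.2⟩
  obtain ⟨i, hi⟩ := mem_zpowers_iff.1 ((mem_norm_zpowers.1 r.2.1.2).le (mem_zpowers _))
  have hrr : (r : G) * r = 1 := by rw [← pow_two, ← hr, pow_orderOf_eq_one]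
  have h2 : x ^ (i * i) = x := by
    rw [zpow_mul, hi, conj_zpow, hi, show (r : G) * ((r : G) * x * (r : G)⁻¹) * (r : G)⁻¹ =
      ((r : G) * r) * x * ((r : G) * r)⁻¹ by group, hrr]
    group
  rw [← hi]
  have hdvd : (11 : ℤ) ∣ (i - 1) * (i + 1) := by
    have : x ^ (i * i - 1) = 1 := by rw [zpow_sub, h2, zpow_one, mul_inv_cancel]
    have := orderOf_dvd_iff_zpow_eq_one.2 this
    rw [B.ord] at this
    rwa [show (i - 1) * (i + 1) = i * i - 1 by ring]
  rcases (Int.prime_iff_natAbs_prime.2 (by norm_num)).dvd_or_dvd hdvd with ⟨j, hj⟩ | ⟨j, hj⟩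
  · exfalso
    have hfix : x ^ i = x := by
      rw [show i = 1 + 11 * j by linarith, zpow_add, zpow_mul,
        show x ^ (11 : ℤ) = 1 by rw [show (11 : ℤ) = ((11 : ℕ) : ℤ) from rfl, zpow_natCast, ← B.ord, pow_orderOf_eq_one],
        one_zpow, mul_one, zpow_one]
    rw [hfix] at hi
    have hm : (r : G) ∈ zpowers x := (B.fix_cent hv).le
      ⟨⟨r.2.1.1, mem_centralizer_singleton_iff.2 (mul_inv_eq_iff_eq_mul.1 hi.symm)⟩, r.2.2⟩
    have := Subgroup.orderOf_dvd_natCard _ hm
    rw [Nat.card_zpowers, hr, B.ord] at this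
    norm_num at this
  · rw [show i = -1 + 11 * j by linarith, zpow_add, zpow_mul,
      show x ^ (11 : ℤ) = 1 by rw [show (11 : ℤ) = ((11 : ℕ) : ℤ) from rfl, zpow_natCast, ← B.ord, pow_orderOf_eq_one],
      one_zpow, mul_one, zpow_neg, zpow_one]

/-- All nontrivial powers of `x` are conjugate under `N_H(⟨x⟩)`. -/
theorem conj_powers {y : G} (hy : y ∈ zpowers x) (hy1 : y ≠ 1) :
    ∃ h ∈ cH z ⊓ normalizer ((zpowers x : Subgroup G) : Set G), h * x * h⁻¹ = y := by
  set NH := cH z ⊓ normalizer ((zpowers x : Subgroup G) : Set G) with hNH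
  have hcentN : NH ⊓ centralizer ({x} : Set G) = cH z ⊓ centralizer ({x} : Set G) := by
    refine le_antisymm (inf_le_inf_right _ inf_le_left) fun g hg => ⟨⟨hg.1, B.norm_of_conj ?_⟩, hg.2⟩
    rw [mem_centralizer_singleton_iff.1 hg.2, mul_inv_cancel_right]
    exact mem_zpowers x
  have horb := CfsgLib.J4Eleven.card_mul_card_centralizer NH x
  rw [hcentN, (card_cent_norm B.type B.memC B.ord).1, (card_cent_norm B.type B.memC B.ord).2] at horb
  set O := {b : G | CfsgLib.J4Eleven.MovedBy NH x b}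
  have hsub : O ⊆ ((zpowers x : Subgroup G) : Set G) \ {1} := by
    rintro _ ⟨h, hh, rfl⟩
    refine ⟨(mem_norm_zpowers.1 hh.2).le (mem_zpowers _), fun e => ?_⟩
    have hxne : x ≠ 1 := fun e' => by have := B.ord; rw [e', orderOf_one] at this; norm_num at this
    exact hxne (conj_eq_one_iff.1 e)
  have hc : (((zpowers x : Subgroup G) : Set G) \ {1}).ncard = 10 := by
    rw [Set.ncard_sdiff (by simp), Set.ncard_singleton, ← Nat.card_coe_set_eq, SetLike.coe_sort_coe,
      Nat.card_zpowers, B.ord]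
  have heq := Set.eq_of_subset_of_ncard_le hsub (by rw [hc]; omega) (Set.toFinite _)
  exact heq.ge ⟨hy, hy1⟩

end Base

end CfsgLib.J4SylEleven
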